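import Mathlib
import Cfsg.Agent.Lib.Helper97.FrobFormula
import Cfsg.Agent.Lib.Helper87.PGroupFrattini
import Cfsg.Agent.Lib.Helper61.CoresInt

/-!
Consequences of the Frobenius fixed point formula (helper35): a Frobenius group `D ⋊ K`
acting coprimely on a solvable group `H` such that all non-identity elements of `K` have the
same centralizer `C` in `H` ("prime action").

* `card_prime_of_frob_prime_action`: if `D` does not centralize `H` then `K` has prime order.
* `frobQ`: if `H = Q` is a `q`-group and `C` has order `q`, the structure of `Q` over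
  `Q₀ = C_Q(D)` (this is the local part of Bender–Glauberman, Theorem 15.2).
-/

set_option autoImplicit false

namespace Cfsg.Agent.Lib.Helper35.BG

open Subgroup

section plumbing

variable {G : Type*} [Group G]

theorem centralizer_sup_eq (A B : Subgroup G) :
    centralizer ((A ⊔ B : Subgroup G) : Set G) =
      centralizer (A : Set G) ⊓ centralizer (B : Set G) := by
  apply le_antisymm
  · exact le_inf (centralizer_le (by exact_mod_cast (le_sup_left : A ≤ A ⊔ B)))
      (centralizer_le (by exact_mod_cast (le_sup_right : B ≤ A ⊔ B)))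
  · intro x hx
    have hA : A ≤ centralizer ({x} : Set G) := by
      intro a ha
      rw [mem_centralizer_iff]
      intro y hy
      rw [Set.mem_singleton_iff] at hy
      subst hy
      exact ((mem_centralizer_iff.mp (Subgroup.mem_inf.mp hx).1) a ha).symm
    have hB : B ≤ centralizer ({x} : Set G) := by
      intro a ha
      rw [mem_centralizer_iff]
      intro y hy
      rw [Set.mem_singleton_iff] at hy
      subst hy
      exact ((mem_centralizer_iff.mp (Subgroup.mem_inf.mp hx).2) a ha).symm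
    rw [mem_centralizer_iff]
    intro z hz
    have h1 : z ∈ centralizer ({x} : Set G) := (sup_le hA hB) hz
    exact ((mem_centralizer_iff.mp h1) x (Set.mem_singleton x)).symm

theorem le_normalizer_of_forall_conj_mem {X A : Subgroup G}
    (h : ∀ x ∈ X, ∀ a ∈ A, x * a * x⁻¹ ∈ A) : X ≤ normalizer (A : Set G) := by
  intro x hx
  rw [mem_normalizer_iff]
  intro a
  constructor
  · exact h x hx a
  · intro ha
    have h1 := h x⁻¹ (inv_mem hx) _ ha
    have h2 : x⁻¹ * (x * a * x⁻¹) * x⁻¹⁻¹ = a := by group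
    rw [h2] at h1
    exact h1

theorem le_normalizer_inf_of_le {X A B : Subgroup G} (hA : X ≤ normalizer (A : Set G))
    (hB : X ≤ normalizer (B : Set G)) : X ≤ normalizer ((A ⊓ B : Subgroup G) : Set G) := by
  apply le_normalizer_of_forall_conj_mem
  intro x hx a ha
  obtain ⟨haA, haB⟩ := Subgroup.mem_inf.mp ha
  exact Subgroup.mem_inf.mpr
    ⟨(mem_normalizer_iff.mp (hA hx) a).mp haA, (mem_normalizer_iff.mp (hB hx) a).mp haB⟩

theorem le_normalizer_sup_of_le {X A B : Subgroup G} (hA : X ≤ normalizer (A : Set G))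
    (hB : X ≤ normalizer (B : Set G)) : X ≤ normalizer ((A ⊔ B : Subgroup G) : Set G) := by
  intro x hx
  apply Subgroup.mem_normalizer_iff_map_conj_eq.2
  rw [Subgroup.map_sup, Subgroup.mem_normalizer_iff_map_conj_eq.1 (hA hx),
    Subgroup.mem_normalizer_iff_map_conj_eq.1 (hB hx)]

theorem normalizer_le_normalizer_centralizer (D : Subgroup G) :
    normalizer (D : Set G) ≤ normalizer ((centralizer (D : Set G) : Subgroup G) : Set G) := by
  apply le_normalizer_of_forall_conj_mem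
  intro g hg y hy
  rw [mem_centralizer_iff] at hy ⊢
  intro d hd
  have hd' : g⁻¹ * d * g ∈ D := (mem_normalizer_iff''.mp hg d).mp hd
  have h1 := hy _ hd'
  calc d * (g * y * g⁻¹) = g * ((g⁻¹ * d * g) * y) * g⁻¹ := by group
    _ = g * (y * (g⁻¹ * d * g)) * g⁻¹ := by rw [h1]
    _ = g * y * g⁻¹ * d := by group

end plumbing

variable {G : Type*} [Group G] [Finite G]

/-- The Frobenius fixed point formula for a `D`- and `K`-invariant subgroup `P` of `H`, under
prime action of `K` on `H`, and for a nontrivial subgroup `K₀` of `K`. -/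
theorem frob_core (H D K C : Subgroup G)
    (hKD : K ≤ normalizer (D : Set G)) (hK1 : K ≠ ⊥)
    (hfpf : ∀ k ∈ K, k ≠ 1 → ∀ d ∈ D, k * d = d * k → d = 1)
    (hsolv : Group.IsSolvable H)
    (hcop : (Nat.card H).Coprime (Nat.card ↥(D ⊔ K)))
    (hprime : ∀ k ∈ K, k ≠ 1 → H ⊓ centralizer ({k} : Set G) = C)
    (K₀ : Subgroup G) (hK₀ : K₀ ≤ K) (hK₀1 : K₀ ≠ ⊥)
    (P : Subgroup G) (hPH : P ≤ H) (hDP : D ≤ normalizer (P : Set G))
    (hKP : K ≤ normalizer (P : Set G)) :
    Nat.card ↥(P ⊓ C ⊓ centralizer (D : Set G)) ^ Nat.card K₀ * Nat.card P =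
      Nat.card ↥(P ⊓ C) ^ Nat.card K₀ * Nat.card ↥(P ⊓ centralizer (D : Set G)) := by
  have hUn : ∀ e ∈ K₀, ∀ u ∈ D, e * u * e⁻¹ ∈ D :=
    fun e he u hu => (mem_normalizer_iff.mp (hKD (hK₀ he)) u).mp hu
  have hUnK : ∀ e ∈ K, ∀ u ∈ D, e * u * e⁻¹ ∈ D :=
    fun e he u hu => (mem_normalizer_iff.mp (hKD he) u).mp hu
  have hnil : Group.IsNilpotent D :=
    Cfsg.Agent.Lib.Helper97.FrobFormula.nilpotent_of_fpf D K hK1 hUnK hfpf
  have hPsolv : Group.IsSolvable P :=
    Group.isSolvable_of_isSolvable_injective (Subgroup.inclusion_injective hPH)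
  have hle : D ⊔ K₀ ≤ D ⊔ K := sup_le_sup_left hK₀ D
  have hcop' : Nat.Coprime (Nat.card P) (Nat.card ↥(D ⊔ K₀)) :=
    Nat.Coprime.coprime_dvd_left (Subgroup.card_dvd_of_le hPH)
      (Nat.Coprime.coprime_dvd_right (Subgroup.card_dvd_of_le hle) hcop)
  have h1 := Cfsg.Agent.Lib.Helper97.FrobFormula.frob_formula D K₀ P hUn
    (fun e he => hfpf e (hK₀ he)) hnil (sup_le hDP (hK₀.trans hKP)) hPsolv hcop'
  obtain ⟨k, hk, hk1⟩ : ∃ k ∈ K₀, k ≠ 1 := by
    obtain ⟨⟨k, hk⟩, hk1⟩ := (Subgroup.ne_bot_iff_exists_ne_one).mp hK₀1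
    exact ⟨k, hk, fun h => hk1 (Subtype.ext h)⟩
  have hC₀ : H ⊓ centralizer (K₀ : Set G) = C := by
    apply le_antisymm
    · intro x hx
      rw [← hprime k (hK₀ hk) hk1]
      refine Subgroup.mem_inf.mpr ⟨(Subgroup.mem_inf.mp hx).1, ?_⟩
      rw [mem_centralizer_iff]
      intro y hy
      rw [Set.mem_singleton_iff] at hy
      rw [hy]
      exact (mem_centralizer_iff.mp (Subgroup.mem_inf.mp hx).2) k hk
    · intro x hx
      have hxH : x ∈ H := by
        rw [← hprime k (hK₀ hk) hk1] at hx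
        exact (Subgroup.mem_inf.mp hx).1
      refine Subgroup.mem_inf.mpr ⟨hxH, ?_⟩
      rw [mem_centralizer_iff]
      intro y hy
      by_cases hy1 : y = 1
      · rw [hy1, one_mul, mul_one]
      · have h2 : x ∈ H ⊓ centralizer ({y} : Set G) := by
          rw [hprime y (hK₀ hy) hy1]
          exact hx
        exact (mem_centralizer_iff.mp (Subgroup.mem_inf.mp h2).2) y (Set.mem_singleton y)
  have e1 : P ⊓ centralizer (K₀ : Set G) = P ⊓ C := by
    rw [← hC₀, ← inf_assoc, inf_eq_left.mpr hPH]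
  have e2 : P ⊓ centralizer ((D ⊔ K₀ : Subgroup G) : Set G) =
      P ⊓ C ⊓ centralizer (D : Set G) := by
    rw [centralizer_sup_eq, ← e1, inf_comm (centralizer (D : Set G)), inf_assoc]
  rw [e2, e1] at h1
  exact h1

/-- **Prime order of the complement.** A Frobenius group `D ⋊ K` acting coprimely on a solvable
group `H` with prime action of `K`: if `D` does not centralize `H`, then `K` has prime order. -/
theorem card_prime_of_frob_prime_action (H D K C : Subgroup G)
    (hKD : K ≤ normalizer (D : Set G)) (hK1 : K ≠ ⊥)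
    (hfpf : ∀ k ∈ K, k ≠ 1 → ∀ d ∈ D, k * d = d * k → d = 1)
    (hDH : D ≤ normalizer (H : Set G)) (hKH : K ≤ normalizer (H : Set G))
    (hsolv : Group.IsSolvable H)
    (hcop : (Nat.card H).Coprime (Nat.card ↥(D ⊔ K)))
    (hprime : ∀ k ∈ K, k ≠ 1 → H ⊓ centralizer ({k} : Set G) = C)
    (hnc : ¬ D ≤ centralizer (H : Set G)) :
    (Nat.card K).Prime := by
  obtain ⟨k₀, hk₀, hk₀1⟩ : ∃ k ∈ K, k ≠ 1 := by
    obtain ⟨⟨k, hk⟩, hk1⟩ := (Subgroup.ne_bot_iff_exists_ne_one).mp hK1
    exact ⟨k, hk, fun h => hk1 (Subtype.ext h)⟩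
  have hCH : C ≤ H := by
    rw [← hprime k₀ hk₀ hk₀1]
    exact inf_le_left
  have key : ∀ K₀ : Subgroup G, K₀ ≤ K → K₀ ≠ ⊥ →
      Nat.card ↥(C ⊓ centralizer (D : Set G)) ^ Nat.card K₀ * Nat.card H =
        Nat.card C ^ Nat.card K₀ * Nat.card ↥(H ⊓ centralizer (D : Set G)) := by
    intro K₀ hK₀ hK₀1
    have h1 := frob_core H D K C hKD hK1 hfpf hsolv hcop hprime K₀ hK₀ hK₀1 H le_rfl hDH hKH
    rwa [inf_eq_right.mpr hCH] at h1
  obtain ⟨m, hm⟩ : Nat.card ↥(C ⊓ centralizer (D : Set G)) ∣ Nat.card C :=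
    Subgroup.card_dvd_of_le inf_le_left
  have hcpos : 0 < Nat.card ↥(C ⊓ centralizer (D : Set G)) := Nat.card_pos
  have hh₀pos : 0 < Nat.card ↥(H ⊓ centralizer (D : Set G)) := Nat.card_pos
  have key2 : ∀ K₀ : Subgroup G, K₀ ≤ K → K₀ ≠ ⊥ →
      Nat.card H = m ^ Nat.card K₀ * Nat.card ↥(H ⊓ centralizer (D : Set G)) := by
    intro K₀ hK₀ hK₀1
    have h1 := key K₀ hK₀ hK₀1
    rw [hm, mul_pow, mul_assoc] at h1
    exact Nat.eq_of_mul_eq_mul_left (pow_pos hcpos _) h1
  have hm2 : 2 ≤ m := by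
    by_contra hlt
    have hmpos : 0 < m := by
      rcases Nat.eq_zero_or_pos m with h | h
      · rw [h, mul_zero] at hm
        exact absurd hm (Nat.card_pos.ne')
      · exact h
    have hm1 : m = 1 := by omega
    have h1 := key2 K le_rfl hK1
    rw [hm1, one_pow, one_mul] at h1
    have h2 : H ⊓ centralizer (D : Set G) = H :=
      Subgroup.eq_of_le_of_card_ge inf_le_left (by rw [← h1])
    apply hnc
    rw [le_centralizer_iff]
    exact inf_eq_left.mp h2
  have hall : ∀ K₀ : Subgroup G, K₀ ≤ K → K₀ ≠ ⊥ → Nat.card K₀ = Nat.card K := by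
    intro K₀ hK₀ hK₀1
    have h1 := key2 K₀ hK₀ hK₀1
    have h2 := key2 K le_rfl hK1
    have h3 : m ^ Nat.card K₀ = m ^ Nat.card K := by
      apply Nat.eq_of_mul_eq_mul_right hh₀pos
      rw [← h1, ← h2]
    exact Nat.pow_right_injective hm2 h3
  have hnon : Nontrivial ↥K := (Subgroup.nontrivial_iff_ne_bot K).mpr hK1
  have hcard : 1 < Nat.card ↥K := Finite.one_lt_card
  obtain ⟨p, hp, hpdvd⟩ := Nat.exists_prime_and_dvd hcard.ne'
  have hpF : Fact p.Prime := ⟨hp⟩
  obtain ⟨e, he⟩ := exists_prime_orderOf_dvd_card' (G := ↥K) p hpdvd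
  have hord : orderOf (e : G) = p := by
    rw [← he]
    exact Subgroup.orderOf_coe e
  have hz : zpowers (e : G) ≤ K := zpowers_le.mpr e.2
  have hz1 : zpowers (e : G) ≠ ⊥ := by
    intro h
    have h1 : (e : G) = 1 := Subgroup.zpowers_eq_bot.mp h
    rw [h1, orderOf_one] at hord
    exact hp.one_lt.ne hord
  have h4 := hall _ hz hz1
  rw [Nat.card_zpowers, hord] at h4
  rw [← h4]
  exact hp

/-- **Local form of Bender–Glauberman 15.2.**  A Frobenius group `D ⋊ K` acts coprimely on a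
`q`-group `Q`, all non-identity elements of `K` have the same centralizer `C` in `Q`, of order
`q`, and `D` does not centralize `Q`.  With `Q₀ = C_Q(D)`: `K` has prime order,
`|Q| = |Q₀| q ^ |K|`, `Q₀ < Q`, `Q₀` contains all `q`-th powers and commutators of `Q`, `Q₀` is
normalized by `Q`, `D`, `K`, and no subgroup strictly between `Q₀` and `Q` is normalized by
`D` and `K`. -/
theorem frobQ (q : ℕ) [hq : Fact q.Prime] (Q D K C : Subgroup G) (hQ : IsPGroup q Q)
    (hDQ : D ≤ normalizer (Q : Set G)) (hKQ : K ≤ normalizer (Q : Set G))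
    (hKD : K ≤ normalizer (D : Set G)) (hK1 : K ≠ ⊥)
    (hfpf : ∀ k ∈ K, k ≠ 1 → ∀ d ∈ D, k * d = d * k → d = 1)
    (hcop : (Nat.card Q).Coprime (Nat.card ↥(D ⊔ K)))
    (hC : Nat.card C = q)
    (hprime : ∀ k ∈ K, k ≠ 1 → Q ⊓ centralizer ({k} : Set G) = C)
    (hnc : ¬ D ≤ centralizer (Q : Set G)) :
    (Nat.card K).Prime ∧
    Nat.card Q = Nat.card ↥(Q ⊓ centralizer (D : Set G)) * q ^ Nat.card K ∧
    Q ⊓ centralizer (D : Set G) < Q ∧
    (∀ a ∈ Q, ∀ b ∈ Q, a ^ q ∈ Q ⊓ centralizer (D : Set G) ∧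
      a * b * a⁻¹ * b⁻¹ ∈ Q ⊓ centralizer (D : Set G)) ∧
    Q ≤ normalizer ((Q ⊓ centralizer (D : Set G) : Subgroup G) : Set G) ∧
    D ≤ normalizer ((Q ⊓ centralizer (D : Set G) : Subgroup G) : Set G) ∧
    K ≤ normalizer ((Q ⊓ centralizer (D : Set G) : Subgroup G) : Set G) ∧
    ∀ N : Subgroup G, Q ⊓ centralizer (D : Set G) < N → N < Q →
      D ≤ normalizer (N : Set G) → K ≤ normalizer (N : Set G) → False := by
  classical
  have hqp : q.Prime := hq.out
  have hQnil : Group.IsNilpotent Q := hQ.isNilpotent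
  have hsolv : Group.IsSolvable Q := inferInstance
  have hprimeK := card_prime_of_frob_prime_action Q D K C hKD hK1 hfpf hDQ hKQ hsolv hcop
    hprime hnc
  obtain ⟨k₀, hk₀, hk₀1⟩ : ∃ k ∈ K, k ≠ 1 := by
    obtain ⟨⟨k, hk⟩, hk1⟩ := (Subgroup.ne_bot_iff_exists_ne_one).mp hK1
    exact ⟨k, hk, fun h => hk1 (Subtype.ext h)⟩
  have hCQ : C ≤ Q := by
    rw [← hprime k₀ hk₀ hk₀1]
    exact inf_le_left
  have core : ∀ P : Subgroup G, P ≤ Q → D ≤ normalizer (P : Set G) →
      K ≤ normalizer (P : Set G) →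
      Nat.card ↥(P ⊓ C ⊓ centralizer (D : Set G)) ^ Nat.card K * Nat.card P =
        Nat.card ↥(P ⊓ C) ^ Nat.card K * Nat.card ↥(P ⊓ centralizer (D : Set G)) :=
    fun P hP hDP hKP =>
      frob_core Q D K C hKD hK1 hfpf hsolv hcop hprime K le_rfl hK1 P hP hDP hKP
  have hKpos : 0 < Nat.card K := Nat.card_pos
  -- `C ∩ C(D) = 1`
  have hCD : C ⊓ centralizer (D : Set G) = ⊥ := by
    by_contra hne
    have hle : C ≤ centralizer (D : Set G) := by
      have hdvd : Nat.card ↥(C ⊓ centralizer (D : Set G)) ∣ q := by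
        rw [← hC]
        exact Subgroup.card_dvd_of_le inf_le_left
      rcases (Nat.dvd_prime hqp).mp hdvd with h | h
      · exact absurd (Subgroup.card_eq_one.mp h) hne
      · have h1 : C ⊓ centralizer (D : Set G) = C :=
          Subgroup.eq_of_le_of_card_ge inf_le_left (by rw [h, hC])
        exact inf_eq_left.mp h1
    have h1 := core Q le_rfl hDQ hKQ
    rw [inf_eq_right.mpr hCQ, inf_eq_left.mpr hle] at h1
    have h2 : Nat.card Q = Nat.card ↥(Q ⊓ centralizer (D : Set G)) :=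
      Nat.eq_of_mul_eq_mul_left (pow_pos Nat.card_pos _) h1
    have h3 : Q ⊓ centralizer (D : Set G) = Q :=
      Subgroup.eq_of_le_of_card_ge inf_le_left (by rw [← h2])
    apply hnc
    rw [le_centralizer_iff]
    exact inf_eq_left.mp h3
  have form : ∀ P : Subgroup G, P ≤ Q → D ≤ normalizer (P : Set G) →
      K ≤ normalizer (P : Set G) →
      Nat.card P = Nat.card ↥(P ⊓ C) ^ Nat.card K * Nat.card ↥(P ⊓ centralizer (D : Set G)) := by
    intro P hP hDP hKP
    have h1 := core P hP hDP hKP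
    have h2 : P ⊓ C ⊓ centralizer (D : Set G) = ⊥ := by
      rw [eq_bot_iff, ← hCD, inf_assoc]
      exact inf_le_right
    rw [h2, Subgroup.card_bot, one_pow, one_mul] at h1
    exact h1
  have hQform : Nat.card Q = q ^ Nat.card K * Nat.card ↥(Q ⊓ centralizer (D : Set G)) := by
    have h1 := form Q le_rfl hDQ hKQ
    rwa [inf_eq_right.mpr hCQ, hC] at h1
  have hQ₀lt : Q ⊓ centralizer (D : Set G) < Q := by
    refine lt_of_le_of_ne inf_le_left ?_
    intro h
    have h1 : Nat.card Q = q ^ Nat.card K * Nat.card Q := by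
      conv_lhs => rw [hQform]
      rw [h]
    have h2 : 1 < q ^ Nat.card K := Nat.one_lt_pow hKpos.ne' hqp.one_lt
    have h3 : 0 < Nat.card Q := Nat.card_pos
    nlinarith
  have avoid : ∀ P : Subgroup G, P ≤ Q → D ≤ normalizer (P : Set G) →
      K ≤ normalizer (P : Set G) → P ⊓ C = ⊥ → P ≤ Q ⊓ centralizer (D : Set G) := by
    intro P hP hDP hKP hPC
    have h1 := form P hP hDP hKP
    rw [hPC, Subgroup.card_bot, one_pow, one_mul] at h1
    have h2 : P ⊓ centralizer (D : Set G) = P :=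
      Subgroup.eq_of_le_of_card_ge inf_le_left (by rw [← h1])
    exact le_inf hP (inf_eq_left.mp h2)
  have dich : ∀ P : Subgroup G, P ⊓ C = ⊥ ∨ C ≤ P := by
    intro P
    have hdvd : Nat.card ↥(P ⊓ C) ∣ q := by
      rw [← hC]
      exact Subgroup.card_dvd_of_le inf_le_right
    rcases (Nat.dvd_prime hqp).mp hdvd with h | h
    · left
      exact Subgroup.card_eq_one.mp h
    · right
      have h1 : P ⊓ C = C := Subgroup.eq_of_le_of_card_ge inf_le_right (by rw [h, hC])
      exact inf_eq_right.mp h1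
  have hDQ₀ : D ≤ normalizer ((Q ⊓ centralizer (D : Set G) : Subgroup G) : Set G) :=
    le_normalizer_inf_of_le hDQ (le_normalizer.trans (normalizer_le_normalizer_centralizer D))
  have hKQ₀ : K ≤ normalizer ((Q ⊓ centralizer (D : Set G) : Subgroup G) : Set G) :=
    le_normalizer_inf_of_le hKQ (hKD.trans (normalizer_le_normalizer_centralizer D))
  -- the Frattini subgroup
  set Φ : Subgroup G := (frattini ↥Q).map Q.subtype with hΦ
  have hΦQ : Φ ≤ Q := Subgroup.map_subtype_le _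
  have hNΦ : normalizer (Q : Set G) ≤ normalizer (Φ : Set G) :=
    Cfsg.Agent.Lib.Helper61.normalizer_le_normalizer_map_of_characteristic Q (frattini ↥Q)
      inferInstance
  have hΦC : Φ ⊓ C = ⊥ := by
    rcases dich Φ with h | h
    · exact h
    · exfalso
      have hTQ : (Q ⊓ centralizer (D : Set G)) ⊔ Φ ≤ Q := sup_le inf_le_left hΦQ
      have hDT : D ≤ normalizer (((Q ⊓ centralizer (D : Set G)) ⊔ Φ : Subgroup G) : Set G) :=
        le_normalizer_sup_of_le hDQ₀ (hDQ.trans hNΦ)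
      have hKT : K ≤ normalizer (((Q ⊓ centralizer (D : Set G)) ⊔ Φ : Subgroup G) : Set G) :=
        le_normalizer_sup_of_le hKQ₀ (hKQ.trans hNΦ)
      have h1 := form _ hTQ hDT hKT
      have h2 : ((Q ⊓ centralizer (D : Set G)) ⊔ Φ) ⊓ C = C :=
        inf_eq_right.mpr (h.trans le_sup_right)
      have h3 : ((Q ⊓ centralizer (D : Set G)) ⊔ Φ) ⊓ centralizer (D : Set G) =
          Q ⊓ centralizer (D : Set G) := by
        apply le_antisymm
        · exact le_inf (inf_le_left.trans hTQ) inf_le_right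
        · exact le_inf le_sup_left inf_le_right
      rw [h2, h3, hC, ← hQform] at h1
      have hTeq : (Q ⊓ centralizer (D : Set G)) ⊔ Φ = Q :=
        Subgroup.eq_of_le_of_card_ge hTQ (by rw [h1])
      have h4 : (Q ⊓ centralizer (D : Set G)).subgroupOf Q ⊔ frattini ↥Q = ⊤ := by
        apply Subgroup.map_injective Q.subtype_injective
        rw [Subgroup.map_sup, Subgroup.map_subgroupOf_eq_of_le inf_le_left, ← hΦ, hTeq,
          ← MonoidHom.range_eq_map, Subgroup.range_subtype]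
      have h5 : (Q ⊓ centralizer (D : Set G)).subgroupOf Q = ⊤ := frattini_nongenerating h4
      have h6 : Q ≤ Q ⊓ centralizer (D : Set G) := Subgroup.subgroupOf_eq_top.mp h5
      exact hQ₀lt.ne (le_antisymm inf_le_left h6)
  have hΦQ₀ : Φ ≤ Q ⊓ centralizer (D : Set G) :=
    avoid Φ hΦQ (hDQ.trans hNΦ) (hKQ.trans hNΦ) hΦC
  have hpow : ∀ a ∈ Q, a ^ q ∈ Φ := by
    intro a ha
    have h1 := Cfsg.Agent.Lib.Helper87.pow_p_mem_frattini (G := ↥Q) hQ ⟨a, ha⟩
    exact ⟨_, h1, rfl⟩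
  have hcomm : ∀ a ∈ Q, ∀ b ∈ Q, a * b * a⁻¹ * b⁻¹ ∈ Φ := by
    intro a ha b hb
    have h1 := Cfsg.Agent.Lib.Helper87.comm_mem_frattini (G := ↥Q) hQ ⟨a, ha⟩ ⟨b, hb⟩
    exact ⟨_, h1, rfl⟩
  have hQQ₀ : Q ≤ normalizer ((Q ⊓ centralizer (D : Set G) : Subgroup G) : Set G) := by
    apply le_normalizer_of_forall_conj_mem
    intro x hx a ha
    have h1 : x * a * x⁻¹ * a⁻¹ ∈ Q ⊓ centralizer (D : Set G) :=
      hΦQ₀ (hcomm x hx a (Subgroup.mem_inf.mp ha).1)
    have h2 : x * a * x⁻¹ = (x * a * x⁻¹ * a⁻¹) * a := by group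
    rw [h2]
    exact mul_mem h1 ha
  refine ⟨hprimeK, ?_, hQ₀lt, fun a ha b hb => ⟨hΦQ₀ (hpow a ha), hΦQ₀ (hcomm a ha b hb)⟩,
    hQQ₀, hDQ₀, hKQ₀, ?_⟩
  · rw [hQform, mul_comm]
  · intro N hN₀ hNQ hDN hKN
    have h1 := form N hNQ.le hDN hKN
    have h3 : N ⊓ centralizer (D : Set G) = Q ⊓ centralizer (D : Set G) := by
      apply le_antisymm
      · exact le_inf (inf_le_left.trans hNQ.le) inf_le_right
      · exact le_inf hN₀.le inf_le_right
    rw [h3] at h1
    rcases dich N with h | h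
    · rw [h, Subgroup.card_bot, one_pow, one_mul] at h1
      exact hN₀.ne (Subgroup.eq_of_le_of_card_ge hN₀.le (by rw [h1]))
    · rw [inf_eq_right.mpr h, hC, ← hQform] at h1
      exact hNQ.ne (Subgroup.eq_of_le_of_card_ge hNQ.le (by rw [h1]))

end Cfsg.Agent.Lib.Helper35.BG
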