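import Mathlib
import Cfsg.Statements.S1350
import Cfsg.Statements.S1351
import Cfsg.Statements.S1352
import Cfsg.Statements.S1354
import Cfsg.Statements.S1415
import Cfsg.Statements.S1426
import Cfsg.Statements.S1437
import Cfsg.Agent.Lib.Helper35.BG.Hall
import Cfsg.Agent.Lib.Helper35.BG.Compl
import Cfsg.Agent.Lib.Helper4.CNFit
import Cfsg.Agent.Lib.Helper23.TypeP
import Cfsg.Agent.Lib.Helper67.BG.S1357Core

/-!
Statement S1355 (`1 ≠ M_F ≤ M_σ ≤ M' < M`, `M'/M_F` nilpotent), with S1350, S1351, S1352, S1354,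
S1415, S1426, S1437 as hypotheses (helper35).
-/

set_option autoImplicit false

namespace Cfsg.Agent.Lib.Helper35.BG

open Cfsg

variable {G : Type*} [Group G] [Finite G]

/-- Every prime divisor of `|M_F|` lies in `σ(M)`: the Sylow subgroups of `M_F` are normal
Sylow subgroups of the maximal subgroup `M`. -/
theorem mem_sigma_of_dvd_card_fittingHall (hG : IsMinSimpleOddOrder G) (M : Subgroup G)
    (hM : IsCoatom M) {p : ℕ} (hp : p.Prime) (hdvd : p ∣ Nat.card (fittingHall ↥M)) :
    p ∈ sigma M := by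
  haveI : Fact p.Prime := ⟨hp⟩
  set F := fittingHall ↥M with hF
  haveI hFnil : Group.IsNilpotent F := Cfsg.Agent.Lib.Helper4.CN.fittingHall_nilpotent ↥M
  have hFcop : (Nat.card F).Coprime F.index := Cfsg.Agent.Lib.Helper23.fittingHall_coprime ↥M
  obtain ⟨P₀⟩ : Nonempty (Sylow p F) := inferInstance
  haveI hP₀n : (P₀ : Subgroup F).Normal := inferInstance
  haveI hP₀c : (P₀ : Subgroup F).Characteristic := Sylow.characteristic_of_normal P₀ hP₀n
  set P₁ : Subgroup ↥M := (P₀ : Subgroup F).map F.subtype with hP₁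
  haveI hP₁n : P₁.Normal := ConjAct.normal_of_characteristic_of_normal
  have hP₁p : IsPGroup p P₁ := P₀.isPGroup'.map _
  have hcardP₁ : Nat.card P₁ = Nat.card (P₀ : Subgroup F) :=
    Subgroup.card_map_of_injective F.subtype_injective
  have hidx : ¬ p ∣ P₁.index := by
    have h1 : P₁.index = (P₀ : Subgroup F).index * F.index := by
      have e1 := Subgroup.card_mul_index P₁
      have e2 := Subgroup.card_mul_index (P₀ : Subgroup F)
      have e3 := Subgroup.card_mul_index F
      have hpos : 0 < Nat.card (P₀ : Subgroup F) := Nat.card_pos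
      apply Nat.eq_of_mul_eq_mul_left hpos
      rw [← mul_assoc, e2, e3, ← hcardP₁, e1]
    rw [h1]
    intro h
    rcases (Nat.Prime.dvd_mul hp).mp h with h2 | h2
    · exact P₀.not_dvd_index h2
    · exact (Nat.Prime.coprime_iff_not_dvd hp).mp
        (Nat.Coprime.coprime_dvd_left hdvd hFcop) h2
  have hpM : p ∣ Nat.card M := hdvd.trans (Subgroup.card_subgroup_dvd_card F)
  refine ⟨hp, hpM, hP₁p.toSylow hidx, ?_⟩
  have hcoe : ((hP₁p.toSylow hidx : Sylow p ↥M) : Subgroup ↥M) = P₁ := rfl
  rw [hcoe]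
  set P₂ : Subgroup G := P₁.map M.subtype with hP₂
  have hMN : M ≤ Subgroup.normalizer (P₂ : Set G) :=
    Cfsg.Agent.Lib.Helper67.BG.le_normalizer_map_subtype M P₁
  have hP₂1 : P₂ ≠ ⊥ := by
    intro h
    have h1 : Nat.card P₂ = 1 := Subgroup.card_eq_one.mpr h
    rw [hP₂, Subgroup.card_map_of_injective M.subtype_injective, hcardP₁,
      P₀.card_eq_multiplicity] at h1
    have h3 : (Nat.card F).factorization p = 0 := by
      by_contra hne
      have : 1 < p ^ (Nat.card F).factorization p := Nat.one_lt_pow hne hp.one_lt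
      omega
    have hpos : 0 < Nat.card F := Nat.card_pos
    have := hp.factorization_pos_of_dvd hpos.ne' hdvd
    omega
  have hP₂top : P₂ ≠ ⊤ := by
    intro h
    have : P₂ ≤ M := Subgroup.map_subtype_le _
    rw [h] at this
    exact hM.1 (top_le_iff.mp this)
  have hNtop := normalizer_ne_top hG hP₂1 hP₂top
  by_contra hnot
  exact hNtop (hM.2 _ (lt_of_le_of_ne hMN (fun h => hnot (h ▸ le_rfl))))

/-- `M_F ≤ M_σ`. -/
theorem fittingHallOf_le_sigmaCore (hG : IsMinSimpleOddOrder G) (M : Subgroup G)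
    (hM : IsCoatom M) : fittingHallOf M ≤ sigmaCore M := by
  unfold fittingHallOf sigmaCore
  apply Subgroup.map_mono
  unfold piCore
  exact le_sSup ⟨inferInstance, fun p hp hdvd => mem_sigma_of_dvd_card_fittingHall hG M hM hp hdvd⟩

/-- Statement S1355 with S1350, S1351, S1352, S1354, S1415, S1426, S1437 as hypotheses. -/
theorem s1355_core (hG : IsMinSimpleOddOrder G)
    (h1350 : type_of% (@Cfsg.CfsgFrozen.S1350 G _ _ hG))
    (h1351 : type_of% (@Cfsg.CfsgFrozen.S1351 G _ _ hG))
    (h1352 : type_of% (@Cfsg.CfsgFrozen.S1352 G _ _ hG))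
    (h1354 : type_of% (@Cfsg.CfsgFrozen.S1354 G _ _ hG))
    (h1415 : type_of% (@Cfsg.CfsgFrozen.S1415 G _ _ hG))
    (h1426 : type_of% (@Cfsg.CfsgFrozen.S1426 G _ _ hG))
    (h1437 : type_of% (@Cfsg.CfsgFrozen.S1437 G _ _ hG))
    (M : Subgroup G) (hM : IsCoatom M) :
    Cfsg.fittingHallOf M ≠ ⊥ ∧ Cfsg.fittingHallOf M ≤ Cfsg.sigmaCore M ∧
      Cfsg.sigmaCore M ≤ ⁅M, M⁆ ∧ ⁅M, M⁆ < M ∧
      Group.IsNilpotent
        ↥((commutator ↥M).map (QuotientGroup.mk' (Cfsg.fittingHall ↥M))) := by
  have hFσ := fittingHallOf_le_sigmaCore hG M hM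
  have hσM : sigmaCore M ≤ M := Cfsg.Agent.Lib.Helper67.BG.sigmaCore_le M
  obtain ⟨E, hE⟩ := Cfsg.Agent.Lib.Helper67.BG.exists_compl_sigmaCore M (h1350 M hM).1
  obtain ⟨⟨K, hK⟩, hKcyc⟩ := h1351 M hM
  have hKc : IsCyclic K := hKcyc K hK
  obtain ⟨⟨U, hKU⟩, -⟩ := h1352 M hM K hKc hK
  -- (a) and (e), by cases
  have hae : fittingHallOf M ≠ ⊥ ∧ Group.IsNilpotent
      ↥((commutator ↥M).map (QuotientGroup.mk' (Cfsg.fittingHall ↥M))) := by
    by_cases heq : fittingHallOf M = sigmaCore M
    · constructor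
      · rw [heq]
        intro h
        have := (h1354 M hM K hKc hK).1
        rw [h, bot_inf_eq] at this
        exact this rfl
      · have heq' : fittingHall ↥M = piCore (sigma M) ↥M :=
          Subgroup.map_injective M.subtype_injective heq
        have hnilE : Group.IsNilpotent ↥(commutator ↥E) := by
          have h1 := (h1415 M hM E hE).1
          have h2 : (commutator ↥E).map E.subtype = ⁅E, E⁆ := Subgroup.map_subtype_commutator E
          haveI := h1
          have h3 : Group.IsNilpotent ↥((commutator ↥E).map E.subtype) := by rw [h2]; exact h1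
          haveI := h3
          exact Group.nilpotent_of_mulEquiv
            ((commutator ↥E).equivMapOfInjective E.subtype E.subtype_injective).symm
        apply nilpotent_map_commutator_of_hom (fittingHall ↥M) (Subgroup.inclusion hE.1) _ hnilE
        intro x
        obtain ⟨a, ha, b, hb, hab⟩ := hE.2.2.2 (x : G) x.2
        refine ⟨⟨a, ha⟩, ⟨b, hσM hb⟩, ?_, ?_⟩
        · rw [heq']
          obtain ⟨b', hb', hbb⟩ := hb
          have : b' = ⟨b, hσM ⟨b', hb', hbb⟩⟩ := Subtype.ext hbb
          rw [← this]; exact hb'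
        · exact Subtype.ext hab
    · obtain ⟨-, hσeq, -, hqp, hqdvd, -, Q, hQF, hQn, hQp, hQidx, hQD⟩ := h1437 M hM K U hKU heq
      set q := Nat.card ↥(sigmaCore M ⊓ Subgroup.centralizer (K : Set G)) with hq
      haveI : Fact q.Prime := ⟨hqp⟩
      constructor
      · intro h
        rw [h, Subgroup.card_bot] at hqdvd
        exact hqp.one_lt.ne' (Nat.dvd_one.mp hqdvd)
      · have hQσ : Q ≤ sigmaCore M := hQF.trans hFσ
        have hcop : (Nat.card Q).Coprime (Q.relIndex (sigmaCore M)) := by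
          obtain ⟨k, hk⟩ := IsPGroup.iff_card.mp hQp
          rw [hk]
          exact Nat.Coprime.pow_left k ((Nat.Prime.coprime_iff_not_dvd hqp).mpr hQidx)
        obtain ⟨D, hD⟩ := exists_isComplIn_of_coprime hQσ (hσM.trans hQn) hcop
        have hDnil : Group.IsNilpotent D := (hQD D hD).1
        have hDM : D ≤ M := hD.2.1.trans hσM
        apply nilpotent_map_of_factor (fittingHall ↥M) (commutator ↥M) (Subgroup.inclusion hDM) _
          hDnil
        intro x hx
        have hx' : (x : G) ∈ sigmaCore M := by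
          rw [hσeq, ← Subgroup.map_subtype_commutator]
          exact ⟨x, hx, rfl⟩
        obtain ⟨a, ha, b, hb, hab⟩ := hD.2.2.2 (x : G) hx'
        refine ⟨⟨b, hb⟩, ⟨a, hσM (hQσ ha)⟩, ?_, ?_⟩
        · obtain ⟨a', ha', haa⟩ := hQF ha
          have : a' = ⟨a, hσM (hQσ ha)⟩ := Subtype.ext haa
          rw [← this]; exact ha'
        · exact Subtype.ext hab
  refine ⟨hae.1, hFσ, ?_, ?_, hae.2⟩
  · -- `M_σ ≤ M'`
    have h1 := (h1426 M hM E hE).2.1
    rw [← h1]
    exact Subgroup.commutator_mono hσM hE.1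
  · -- `M' < M`
    refine lt_of_le_of_ne (Cfsg.Agent.Lib.Helper23.commutator_self_le M) ?_
    intro h
    have hMsolv : Group.IsSolvable M := isSolvable_of_ne_top hG hM.1
    have hMnt : Nontrivial M := by
      rw [Subgroup.nontrivial_iff_ne_bot]
      rintro rfl
      exact hae.1 (le_bot_iff.mp (hFσ.trans hσM))
    have h2 : commutator ↥M = ⊤ := by
      apply Subgroup.map_injective M.subtype_injective
      rw [Subgroup.map_subtype_commutator, h, ← MonoidHom.range_eq_map, Subgroup.range_subtype]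
    exact (Group.IsSolvable.commutator_lt_top_of_nontrivial ↥M).ne h2

end Cfsg.Agent.Lib.Helper35.BG
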