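import Mathlib
import Cfsg.Prelude.Def_OddOrderLocal
import Cfsg.Agent.S0033
import Cfsg.Agent.S1445
import Cfsg.Agent.Lib.Helper1.FittingPrimary
import Cfsg.Agent.Lib.Helper23.Transport
import Cfsg.Agent.Lib.Helper23.Compl
import Cfsg.Agent.Lib.Helper35.BG.Hall
import Cfsg.Agent.Lib.Helper35.BG.Compl
import Cfsg.Agent.Lib.Helper35.BG.FrobQ
import Cfsg.Agent.Lib.Helper67.BG.FitUtil

/-!
The local (purely group-theoretic) part of Bender–Glauberman, Theorem 15.2 (helper35).

`M = S ⋊ K` is a solvable group of odd order, `K ≠ 1` acts on `S` coprimely and with prime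
action, the common centralizer `C = C_S(k)` (`k ∈ K#`) has prime order `q`, `[S, K] = S` and
`S` is not nilpotent.  Then `Q = O_q(S)` is a Sylow `q`-subgroup of `S` containing `C`, `K` has
prime order, and for every complement `D` of `Q` in `S`: `D` is nilpotent and not normal in `S`,
`Q₀ = C_Q(D)` is a proper subgroup of `Q`, normal in `M`, containing all `q`-th powers and
commutators of `Q`, `|Q| = |Q₀| q ^ |K|`, and `M` acts irreducibly on `Q / Q₀`.
-/

set_option autoImplicit false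

namespace Cfsg.Agent.Lib.Helper35.BG

open Subgroup Cfsg

section quotient

variable {G : Type*} [Group G]

/-- Conjugation by an element normalizing `S`, as an automorphism of `S`. -/
def conjAut (S : Subgroup G) (k : G) (hk : k ∈ normalizer (S : Set G)) : ↥S ≃* ↥S where
  toFun y := ⟨k * y * k⁻¹, (mem_normalizer_iff.mp hk y).mp y.2⟩
  invFun y := ⟨k⁻¹ * y * k, (mem_normalizer_iff''.mp hk y).mp y.2⟩
  left_inv y := Subtype.ext (by simp [mul_assoc])
  right_inv y := Subtype.ext (by simp [mul_assoc])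
  map_mul' x y := Subtype.ext (by simp [mul_assoc])

theorem conjAut_coe (S : Subgroup G) (k : G) (hk : k ∈ normalizer (S : Set G)) (y : ↥S) :
    ((conjAut S k hk y : ↥S) : G) = k * y * k⁻¹ := rfl

theorem conjAut_iterate (S : Subgroup G) (k : G) (hk : k ∈ normalizer (S : Set G)) (n : ℕ)
    (y : ↥S) : (((⇑(conjAut S k hk))^[n] y : ↥S) : G) = k ^ n * y * (k ^ n)⁻¹ := by
  induction n with
  | zero => simp
  | succ n ih =>
    rw [Function.iterate_succ_apply', conjAut_coe, ih, pow_succ']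
    group

/-- **Thompson's theorem on a quotient.** If `k` normalizes `S`, `k ^ r = 1` for a prime `r`
not dividing `|S|`, and every element of `S` commuting with `k` lies in `O_q(S)`, then
`S / O_q(S)` is nilpotent. -/
theorem nilpotent_quotient_pCore_of_fix [Finite G] (S : Subgroup G) (q r : ℕ) [Fact q.Prime]
    (hr : r.Prime) (k : G) (hk : k ∈ normalizer (S : Set G)) (hkr : k ^ r = 1)
    (hrS : ¬ r ∣ Nat.card S)
    (hfix : ∀ y : ↥S, k * (y : G) = (y : G) * k → y ∈ pCore q ↥S) :
    Group.IsNilpotent (↥S ⧸ pCore q ↥S) := by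
  classical
  set P := pCore q ↥S with hP
  have hPc : P.Characteristic := Cfsg.Agent.Lib.Helper23.pCore_characteristic q ↥S
  set α := conjAut S k hk with hα
  have hle : P ≤ P.comap α.toMonoidHom := (Subgroup.characteristic_iff_comap_eq.mp hPc α).ge
  have hαP : ∀ n : ↥S, n ∈ P → α n ∈ P := fun n hn => hle hn
  have hαr : ∀ y : ↥S, (⇑α)^[r] y = y := by
    intro y
    apply Subtype.ext
    rw [hα, conjAut_iterate, hkr]
    simp
  refine Cfsg.Agent.S0033.fpf_nilpotent_of_iterate (QuotientGroup.map P P α.toMonoidHom hle)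
    ?_ hr ?_
  · -- fixed point free
    intro x hx
    induction x using QuotientGroup.induction_on with
    | H y =>
      rw [QuotientGroup.map_mk] at hx
      have hc : (α y)⁻¹ * y ∈ P := QuotientGroup.eq.mp hx
      have hc' : y⁻¹ * α y ∈ P := by
        have h1 := inv_mem hc
        rwa [mul_inv_rev, inv_inv] at h1
      -- a permutation of `P`
      have hmem : ∀ n : ↥P, y⁻¹ * α (y * n) ∈ P := by
        intro n
        have h1 : y⁻¹ * α (y * n) = (y⁻¹ * α y) * α n := by
          rw [map_mul, mul_assoc]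
        rw [h1]
        exact mul_mem hc' (hαP n n.2)
      have hinj : Function.Injective (fun n : ↥P => (⟨y⁻¹ * α (y * n), hmem n⟩ : ↥P)) := by
        intro n n' hnn
        have h1 : y⁻¹ * α (y * n) = y⁻¹ * α (y * n') := congrArg Subtype.val hnn
        have h2 : α (y * n) = α (y * n') := mul_left_cancel h1
        have h3 : y * (n : ↥S) = y * n' := α.injective h2
        exact Subtype.ext (mul_left_cancel h3)
      set σ : Equiv.Perm ↥P := Equiv.ofBijective _ (Finite.injective_iff_bijective.mp hinj)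
        with hσ
      have hσapp : ∀ n : ↥P, ((σ n : ↥P) : ↥S) = y⁻¹ * α (y * n) := fun n => rfl
      have hσpow : ∀ (j : ℕ) (n : ↥P), (((σ ^ j) n : ↥P) : ↥S) = y⁻¹ * (⇑α)^[j] (y * n) := by
        intro j
        induction j with
        | zero => intro n; simp
        | succ j ih =>
          intro n
          rw [pow_succ', Equiv.Perm.mul_apply, hσapp, ih, Function.iterate_succ_apply']
          congr 2
          group
      have hσr : σ ^ r ^ 1 = 1 := by
        ext n
        rw [pow_one, hσpow, hαr]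
        simp
      have hrF : Fact r.Prime := ⟨hr⟩
      let hFin : Fintype ↥P := Fintype.ofFinite _
      have hcard : ¬ r ∣ Fintype.card ↥P := by
        rw [← Nat.card_eq_fintype_card]
        intro h
        apply hrS
        exact h.trans (Subgroup.card_subgroup_dvd_card P)
      obtain ⟨n, hn⟩ := Equiv.Perm.exists_fixed_point_of_prime hcard hσr
      have h1 : y⁻¹ * α (y * n) = n := by
        rw [← hσapp, hn]
      have h2 : α (y * n) = y * n := by
        calc α (y * n) = y * (y⁻¹ * α (y * n)) := by group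
          _ = y * n := by rw [h1]
      have h3 : k * ((y * n : ↥S) : G) = ((y * n : ↥S) : G) * k := by
        have h4 : k * ((y * n : ↥S) : G) * k⁻¹ = ((y * n : ↥S) : G) := by
          rw [← conjAut_coe S k hk, ← hα, h2]
        calc k * ((y * n : ↥S) : G) = (k * ((y * n : ↥S) : G) * k⁻¹) * k := by group
          _ = ((y * n : ↥S) : G) * k := by rw [h4]
      have h5 : y * (n : ↥S) ∈ P := hfix _ h3
      have h6 : y ∈ P := by
        have h7 := mul_mem h5 (inv_mem n.2)
        rwa [mul_inv_cancel_right] at h7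
      exact (QuotientGroup.eq_one_iff y).mpr h6
  · funext x
    induction x using QuotientGroup.induction_on with
    | H y =>
      have hiter : ∀ j : ℕ, (⇑(QuotientGroup.map P P α.toMonoidHom hle))^[j]
          (y : ↥S ⧸ P) = (((⇑α)^[j] y : ↥S) : ↥S ⧸ P) := by
        intro j
        induction j with
        | zero => simp
        | succ j ih =>
          rw [Function.iterate_succ_apply', ih, QuotientGroup.map_mk,
            Function.iterate_succ_apply']
          rfl
      rw [hiter, hαr]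
      rfl

/-- If `H / O_q(H)` is nilpotent then `O_q(H)` is a Sylow `q`-subgroup of `H`. -/
theorem not_dvd_index_pCore_of_nilpotent {H : Type*} [Group H] [Finite H] (q : ℕ)
    [Fact q.Prime] (hnil : Group.IsNilpotent (H ⧸ pCore q H)) : ¬ q ∣ (pCore q H).index := by
  intro hdvd
  obtain ⟨P₁⟩ : Nonempty (Sylow q (H ⧸ pCore q H)) := inferInstance
  have hP₁ : (P₁ : Subgroup (H ⧸ pCore q H)) ≠ ⊥ := by
    apply P₁.ne_bot_of_dvd_card
    rwa [← Subgroup.index_eq_card]
  have hP₁n : (P₁ : Subgroup (H ⧸ pCore q H)).Normal :=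
    Sylow.normal_of_normalizerCondition Group.normalizerCondition_of_isNilpotent P₁
  have hker : IsPGroup q (QuotientGroup.mk' (pCore q H)).ker := by
    rw [QuotientGroup.ker_mk']
    exact Cfsg.Agent.Lib.Helper55.pCore_isPGroup q H
  have hp : IsPGroup q ((P₁ : Subgroup (H ⧸ pCore q H)).comap (QuotientGroup.mk' (pCore q H))) :=
    P₁.2.comap_of_ker_isPGroup _ hker
  have hn : ((P₁ : Subgroup (H ⧸ pCore q H)).comap (QuotientGroup.mk' (pCore q H))).Normal :=
    hP₁n.comap _
  have hle := Cfsg.Agent.Lib.Helper55.le_pCore hn hp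
  apply hP₁
  rw [eq_bot_iff]
  intro t ht
  obtain ⟨h, rfl⟩ := QuotientGroup.mk'_surjective (pCore q H) t
  have h1 : h ∈ pCore q H := hle (Subgroup.mem_comap.mpr ht)
  rw [Subgroup.mem_bot]
  exact (QuotientGroup.eq_one_iff h).mpr h1

/-- A subgroup meeting the normal subgroup `P` trivially embeds into the quotient. -/
theorem nilpotent_of_inf_eq_bot_of_quotient {H : Type*} [Group H] (P : Subgroup H) [P.Normal]
    (D : Subgroup H) (hPD : P ⊓ D = ⊥) (hnil : Group.IsNilpotent (H ⧸ P)) :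
    Group.IsNilpotent D := by
  set f : ↥D →* H ⧸ P := (QuotientGroup.mk' P).comp D.subtype with hf
  have hinj : Function.Injective f := by
    rw [injective_iff_map_eq_one]
    intro d hd
    have h1 : (d : H) ∈ P := (QuotientGroup.eq_one_iff (d : H)).mp hd
    have h2 : (d : H) ∈ P ⊓ D := Subgroup.mem_inf.mpr ⟨h1, d.2⟩
    rw [hPD, Subgroup.mem_bot] at h2
    exact Subtype.ext h2
  have h3 : Group.IsNilpotent ↥f.range := inferInstance
  exact Group.nilpotent_of_mulEquiv (MonoidHom.ofInjective hinj).symm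

end quotient

variable {G : Type*} [Group G] [Finite G]

/-- Under prime action with `[S, K] = S` and `S` not nilpotent, the common centralizer `C`
(of prime order `q`) lies in `O_q(S)`. -/
theorem le_pCoreOf_of_prime_action (M S K C : Subgroup G) (q : ℕ) [hq : Fact q.Prime]
    (hSK : IsComplIn S K M) (hMS : M ≤ normalizer (S : Set G))
    (hMsolv : Group.IsSolvable M) (hModd : Odd (Nat.card M))
    (hcop : (Nat.card S).Coprime (Nat.card K)) (hK1 : K ≠ ⊥)
    (hC : Nat.card C = q)
    (hprime : ∀ k ∈ K, k ≠ 1 → S ⊓ centralizer ({k} : Set G) = C)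
    (hcomm : ⁅S, K⁆ = S) (hnn : ¬ Group.IsNilpotent S) :
    C ≤ (pCore q ↥S).map S.subtype := by
  classical
  have hqp : q.Prime := hq.out
  obtain ⟨hSM, hKM, hSKbot, hprod⟩ := hSK
  obtain ⟨k₀, hk₀, hk₀1⟩ : ∃ k ∈ K, k ≠ 1 := by
    obtain ⟨⟨k, hk⟩, hk1⟩ := (Subgroup.ne_bot_iff_exists_ne_one).mp hK1
    exact ⟨k, hk, fun h => hk1 (Subtype.ext h)⟩
  have hCS : C ≤ S := by
    rw [← hprime k₀ hk₀ hk₀1]
    exact inf_le_left
  by_contra hCN
  have hCNbot : C ⊓ (pCore q ↥S).map S.subtype = ⊥ := by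
    have hdvd : Nat.card ↥(C ⊓ (pCore q ↥S).map S.subtype) ∣ q := by
      rw [← hC]
      exact Subgroup.card_dvd_of_le inf_le_left
    rcases (Nat.dvd_prime hqp).mp hdvd with h | h
    · exact Subgroup.card_eq_one.mp h
    · exfalso
      have h1 : C ⊓ (pCore q ↥S).map S.subtype = C :=
        Subgroup.eq_of_le_of_card_ge inf_le_left (by rw [h, hC])
      exact hCN (inf_eq_left.mp h1)
  -- pass to the group `↥M`
  set S' : Subgroup ↥M := S.subgroupOf M with hS'
  set K' : Subgroup ↥M := K.subgroupOf M with hK'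
  have hS'n : S'.Normal := (Subgroup.normal_subgroupOf_iff_le_normalizer hSM).mpr hMS
  have hMsolv' : Group.IsSolvable ↥M := hMsolv
  have hsup : S' ⊔ K' = ⊤ := by
    rw [eq_top_iff]
    intro x _
    obtain ⟨a, ha, b, hb, hab⟩ := hprod (x : G) x.2
    have hx : x = (⟨a, hSM ha⟩ : ↥M) * ⟨b, hKM hb⟩ := Subtype.ext hab
    rw [hx]
    exact Subgroup.mul_mem_sup (Subgroup.mem_subgroupOf.mpr ha) (Subgroup.mem_subgroupOf.mpr hb)
  have hcop' : (Nat.card S').Coprime (Nat.card K') := by
    rw [Nat.card_congr (Subgroup.subgroupOfEquivOfLe hSM).toEquiv,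
      Nat.card_congr (Subgroup.subgroupOfEquivOfLe hKM).toEquiv]
    exact hcop
  -- membership in `C`
  have hCiff : ∀ y : G, y ∈ C ↔ y ∈ S ∧ ∀ k ∈ K, k * y = y * k := by
    intro y
    constructor
    · intro hy
      refine ⟨hCS hy, fun k hk => ?_⟩
      by_cases hk1 : k = 1
      · rw [hk1, one_mul, mul_one]
      · have h1 : y ∈ S ⊓ centralizer ({k} : Set G) := by
          rw [hprime k hk hk1]
          exact hy
        exact (mem_centralizer_iff.mp (Subgroup.mem_inf.mp h1).2) k (Set.mem_singleton k)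
    · rintro ⟨hyS, hyK⟩
      rw [← hprime k₀ hk₀ hk₀1]
      refine Subgroup.mem_inf.mpr ⟨hyS, ?_⟩
      rw [mem_centralizer_iff]
      intro z hz
      rw [Set.mem_singleton_iff] at hz
      rw [hz]
      exact hyK k₀ hk₀
  have hprime' : ∀ x ∈ K', x ≠ 1 →
      S' ⊓ centralizer ({x} : Set ↥M) = S' ⊓ centralizer (K' : Set ↥M) := by
    intro x hx hx1
    have hxK : (x : G) ∈ K := Subgroup.mem_subgroupOf.mp hx
    have hx1' : (x : G) ≠ 1 := fun h => hx1 (Subtype.ext h)
    ext y
    rw [Subgroup.mem_inf, Subgroup.mem_inf, mem_centralizer_iff, mem_centralizer_iff]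
    constructor
    · rintro ⟨hyS, hyx⟩
      refine ⟨hyS, ?_⟩
      have hyx' : (x : G) * (y : G) = (y : G) * (x : G) := by
        have := hyx x (Set.mem_singleton x)
        exact congrArg Subtype.val this
      have hyC : (y : G) ∈ C := by
        rw [← hprime (x : G) hxK hx1']
        refine Subgroup.mem_inf.mpr ⟨Subgroup.mem_subgroupOf.mp hyS, ?_⟩
        rw [mem_centralizer_iff]
        intro z hz
        rw [Set.mem_singleton_iff] at hz
        rw [hz]
        exact hyx'
      intro k' hk'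
      exact Subtype.ext (((hCiff _).mp hyC).2 (k' : G) (Subgroup.mem_subgroupOf.mp hk'))
    · rintro ⟨hyS, hyK⟩
      refine ⟨hyS, ?_⟩
      intro z hz
      rw [Set.mem_singleton_iff] at hz
      rw [hz]
      exact hyK x hx
  have hF : fittingOf S' ⊓ centralizer (K' : Set ↥M) = ⊥ := by
    rw [eq_bot_iff]
    intro f hf
    obtain ⟨hfF, hfC⟩ := Subgroup.mem_inf.mp hf
    have hfS' : f ∈ S' := Cfsg.Agent.Lib.Helper67.BG.fittingOf_le S' hfF
    have hfS : (f : G) ∈ S := Subgroup.mem_subgroupOf.mp hfS'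
    have hfC' : (f : G) ∈ C := by
      rw [hCiff]
      refine ⟨hfS, fun k hk => ?_⟩
      have h1 := (mem_centralizer_iff.mp hfC) (⟨k, hKM hk⟩ : ↥M) (Subgroup.mem_subgroupOf.mpr hk)
      exact congrArg Subtype.val h1
    obtain ⟨g, hg, hgf⟩ := hfF
    have hgq : g ^ q ^ 1 = 1 := by
      rw [pow_one]
      apply Subtype.ext
      apply Subtype.ext
      have h1 : ((⟨(f : G), hfC'⟩ : ↥C)) ^ Nat.card C = 1 := pow_card_eq_one'
      have h2 : (f : G) ^ q = 1 := by
        have h3 := congrArg Subtype.val h1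
        rw [hC] at h3
        simpa using h3
      rw [← hgf] at h2
      simpa using h2
    have hgP : g ∈ pCore q ↥S' := Cfsg.Agent.Lib.Helper1.mem_pCore_of_mem_fitting g hg 1 hgq
    set e : ↥S' ≃* ↥S := Subgroup.subgroupOfEquivOfLe hSM with he
    have h4 : e g ∈ pCore q ↥S := by
      rw [← Cfsg.Agent.Lib.Helper23.pCore_map q e]
      exact ⟨g, hgP, rfl⟩
    have h5 : ((e g : ↥S) : G) = (f : G) := by
      rw [← hgf]
      rfl
    have h6 : (f : G) ∈ C ⊓ (pCore q ↥S).map S.subtype :=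
      Subgroup.mem_inf.mpr ⟨hfC', ⟨e g, h4, h5⟩⟩
    rw [hCNbot, Subgroup.mem_bot] at h6
    rw [Subgroup.mem_bot]
    exact Subtype.ext h6
  have h1445 := Cfsg.Agent.S1445.result (G := ↥M) hModd S' K' hsup hcop' hprime' hF
  have hcomm' : ⁅S', K'⁆ = S' := by
    apply Subgroup.map_injective M.subtype_injective
    rw [Subgroup.map_commutator, hS', hK', Subgroup.map_subgroupOf_eq_of_le hSM,
      Subgroup.map_subgroupOf_eq_of_le hKM, hcomm]
  rw [hcomm'] at h1445
  have heq : fittingOf S' = S' :=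
    le_antisymm (Cfsg.Agent.Lib.Helper67.BG.fittingOf_le S') h1445
  have hnil' : Group.IsNilpotent ↥S' := by
    have h1 := Cfsg.Agent.Lib.Helper67.BG.fittingOf_isNilpotent S'
    rwa [heq] at h1
  exact hnn (Group.nilpotent_of_mulEquiv (Subgroup.subgroupOfEquivOfLe hSM))

/-- **Local form of Bender–Glauberman 15.2.** -/
theorem s1437_local (M S K C : Subgroup G) (q : ℕ) [hq : Fact q.Prime]
    (hSK : IsComplIn S K M) (hMS : M ≤ normalizer (S : Set G))
    (hMsolv : Group.IsSolvable M) (hModd : Odd (Nat.card M))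
    (hcop : (Nat.card S).Coprime (Nat.card K)) (hK1 : K ≠ ⊥)
    (hC : Nat.card C = q)
    (hprime : ∀ k ∈ K, k ≠ 1 → S ⊓ centralizer ({k} : Set G) = C)
    (hcomm : ⁅S, K⁆ = S) (hnn : ¬ Group.IsNilpotent S) :
    ∃ Q : Subgroup G, Q ≤ S ∧ M ≤ normalizer (Q : Set G) ∧ IsPGroup q Q ∧
      ¬ q ∣ Q.relIndex S ∧ C ≤ Q ∧ (Nat.card K).Prime ∧
      ∀ D : Subgroup G, IsComplIn Q D S →
        Group.IsNilpotent D ∧ ¬ S ≤ normalizer (D : Set G) ∧
        M ≤ normalizer ((Q ⊓ centralizer (D : Set G) : Subgroup G) : Set G) ∧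
        Q ⊓ centralizer (D : Set G) < Q ∧
        Nat.card Q = Nat.card ↥(Q ⊓ centralizer (D : Set G)) * q ^ Nat.card K ∧
        (∀ a ∈ Q, ∀ b ∈ Q, a ^ q ∈ Q ⊓ centralizer (D : Set G) ∧
          a * b * a⁻¹ * b⁻¹ ∈ Q ⊓ centralizer (D : Set G)) ∧
        ∀ N : Subgroup G, Q ⊓ centralizer (D : Set G) < N → N < Q →
          ¬ M ≤ normalizer (N : Set G) := by
  classical
  have hqp : q.Prime := hq.out
  have hCQ : C ≤ (pCore q ↥S).map S.subtype :=
    le_pCoreOf_of_prime_action M S K C q hSK hMS hMsolv hModd hcop hK1 hC hprime hcomm hnn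
  have hSM : S ≤ M := hSK.1
  have hKM : K ≤ M := hSK.2.1
  obtain ⟨k₁, hk₁, hk₁1⟩ : ∃ k ∈ K, k ≠ 1 := by
    obtain ⟨⟨k, hk⟩, hk1⟩ := (Subgroup.ne_bot_iff_exists_ne_one).mp hK1
    exact ⟨k, hk, fun h => hk1 (Subtype.ext h)⟩
  have hCS : C ≤ S := by
    rw [← hprime k₁ hk₁ hk₁1]
    exact inf_le_left
  have hqS : q ∣ Nat.card S := by
    rw [← hC]
    exact Subgroup.card_dvd_of_le hCS
  have hqK : ¬ q ∣ Nat.card K :=
    (Nat.Prime.coprime_iff_not_dvd hqp).mp (Nat.Coprime.coprime_dvd_left hqS hcop)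
  -- an element of prime order in `K`
  have hnon : Nontrivial ↥K := (Subgroup.nontrivial_iff_ne_bot K).mpr hK1
  have hcardK : 1 < Nat.card ↥K := Finite.one_lt_card
  obtain ⟨r, hr, hrdvd⟩ := Nat.exists_prime_and_dvd hcardK.ne'
  have hrF : Fact r.Prime := ⟨hr⟩
  obtain ⟨e, he⟩ := exists_prime_orderOf_dvd_card' (G := ↥K) r hrdvd
  have hord : orderOf (e : G) = r := by
    rw [← he]
    exact Subgroup.orderOf_coe e
  have he1 : (e : G) ≠ 1 := by
    intro h
    rw [h, orderOf_one] at hord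
    exact hr.one_lt.ne hord
  have her : (e : G) ^ r = 1 := by
    rw [← hord]
    exact pow_orderOf_eq_one _
  have hrS : ¬ r ∣ Nat.card S := by
    intro h
    exact hr.one_lt.ne' (Nat.eq_one_of_dvd_coprimes hcop h hrdvd)
  have heN : (e : G) ∈ normalizer (S : Set G) := hMS (hKM e.2)
  -- `S / O_q(S)` is nilpotent
  have hquot : Group.IsNilpotent (↥S ⧸ pCore q ↥S) := by
    apply nilpotent_quotient_pCore_of_fix S q r hr (e : G) heN her hrS
    intro y hy
    have h1 : (y : G) ∈ C := by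
      rw [← hprime (e : G) e.2 he1]
      refine Subgroup.mem_inf.mpr ⟨y.2, ?_⟩
      rw [mem_centralizer_iff]
      intro z hz
      rw [Set.mem_singleton_iff] at hz
      rw [hz]
      exact hy
    obtain ⟨y', hy', hyy⟩ := hCQ h1
    have : y' = y := Subtype.ext hyy
    rw [← this]
    exact hy'
  have hidx : ¬ q ∣ (pCore q ↥S).index := not_dvd_index_pCore_of_nilpotent q hquot
  set Q : Subgroup G := (pCore q ↥S).map S.subtype with hQdef
  have hQS : Q ≤ S := Subgroup.map_subtype_le _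
  have hQsub : Q.subgroupOf S = pCore q ↥S :=
    Subgroup.comap_map_eq_self_of_injective S.subtype_injective _
  have hNSQ : normalizer (S : Set G) ≤ normalizer (Q : Set G) :=
    Cfsg.Agent.Lib.Helper61.normalizer_le_normalizer_map_of_characteristic S (pCore q ↥S)
      (Cfsg.Agent.Lib.Helper23.pCore_characteristic q ↥S)
  have hMQ : M ≤ normalizer (Q : Set G) := hMS.trans hNSQ
  have hQp : IsPGroup q Q := (Cfsg.Agent.Lib.Helper55.pCore_isPGroup q ↥S).map _
  have hQidx : ¬ q ∣ Q.relIndex S := by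
    unfold Subgroup.relIndex
    rw [hQsub]
    exact hidx
  have hQM : Q ≤ M := hQS.trans hSM
  have hQnil : Group.IsNilpotent Q := hQp.isNilpotent
  have hSsolv : Group.IsSolvable S :=
    @Group.isSolvable_of_isSolvable_injective _ _ _ _ _ (Subgroup.inclusion_injective hSM) hMsolv
  have hcardM : Nat.card M = Nat.card S * Nat.card K :=
    Cfsg.Agent.Lib.Helper23.card_of_isComplIn hSK
  -- the block for a complement
  have block : ∀ D : Subgroup G, IsComplIn Q D S →
      (Nat.card K).Prime ∧ Group.IsNilpotent D ∧ ¬ S ≤ normalizer (D : Set G) ∧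
        M ≤ normalizer ((Q ⊓ centralizer (D : Set G) : Subgroup G) : Set G) ∧
        Q ⊓ centralizer (D : Set G) < Q ∧
        Nat.card Q = Nat.card ↥(Q ⊓ centralizer (D : Set G)) * q ^ Nat.card K ∧
        (∀ a ∈ Q, ∀ b ∈ Q, a ^ q ∈ Q ⊓ centralizer (D : Set G) ∧
          a * b * a⁻¹ * b⁻¹ ∈ Q ⊓ centralizer (D : Set G)) ∧
        ∀ N : Subgroup G, Q ⊓ centralizer (D : Set G) < N → N < Q →
          ¬ M ≤ normalizer (N : Set G) := by
    intro D hD
    have hDS : D ≤ S := hD.2.1
    have hQD : Q ⊓ D = ⊥ := hD.2.2.1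
    -- `D` is nilpotent
    have hDnil : Group.IsNilpotent D := by
      have h1 : pCore q ↥S ⊓ D.subgroupOf S = ⊥ := by
        rw [eq_bot_iff]
        intro x hx
        obtain ⟨hxP, hxD⟩ := Subgroup.mem_inf.mp hx
        have h2 : (x : G) ∈ Q ⊓ D :=
          Subgroup.mem_inf.mpr ⟨⟨x, hxP, rfl⟩, Subgroup.mem_subgroupOf.mp hxD⟩
        rw [hQD, Subgroup.mem_bot] at h2
        rw [Subgroup.mem_bot]
        exact Subtype.ext h2
      have h3 : Group.IsNilpotent ↥(D.subgroupOf S) :=
        nilpotent_of_inf_eq_bot_of_quotient (pCore q ↥S) (D.subgroupOf S) h1 hquot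
      exact Group.nilpotent_of_mulEquiv (Subgroup.subgroupOfEquivOfLe hDS)
    -- `D` is not normal in `S`
    have hDnn : ¬ S ≤ normalizer (D : Set G) := by
      intro hSD
      have h1 : Q ≤ fittingOf S :=
        Cfsg.Agent.Lib.Helper67.BG.le_fittingOf_of_normal_nilpotent hQS (hSM.trans hMQ) hQnil
      have h2 : D ≤ fittingOf S :=
        Cfsg.Agent.Lib.Helper67.BG.le_fittingOf_of_normal_nilpotent hDS hSD hDnil
      have h3 : S ≤ fittingOf S := by
        intro s hs
        obtain ⟨a, ha, b, hb, hab⟩ := hD.2.2.2 s hs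
        rw [hab]
        exact mul_mem (h1 ha) (h2 hb)
      have heq : fittingOf S = S := le_antisymm (Cfsg.Agent.Lib.Helper67.BG.fittingOf_le S) h3
      have h4 := Cfsg.Agent.Lib.Helper67.BG.fittingOf_isNilpotent S
      rw [heq] at h4
      exact hnn h4
    have hcardS : Nat.card S = Nat.card Q * Nat.card D :=
      Cfsg.Agent.Lib.Helper23.card_of_isComplIn hD
    have hqD : ¬ q ∣ Nat.card D := by
      rw [← relIndex_left_of_isComplIn hD]
      exact hQidx
    -- a complement `H₂` of `Q` in `M`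
    have hrel : Q.relIndex M = Q.relIndex S * Nat.card K := by
      rw [← Subgroup.relIndex_mul_relIndex Q S M hQS hSM, relIndex_left_of_isComplIn hSK]
    have hcopQM : (Nat.card Q).Coprime (Q.relIndex M) := by
      obtain ⟨a, ha⟩ := IsPGroup.iff_card.mp hQp
      rw [ha, hrel]
      apply Nat.Coprime.pow_left
      rw [Nat.Prime.coprime_iff_not_dvd hqp]
      intro h
      rcases (Nat.Prime.dvd_mul hqp).mp h with h | h
      · exact hQidx h
      · exact hqK h
    obtain ⟨H₂, hH₂⟩ := exists_isComplIn_of_coprime hQM hMQ hcopQM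
    have hD₂ : IsComplIn Q (H₂ ⊓ S) S := by
      refine ⟨hQS, inf_le_right, ?_, ?_⟩
      · rw [eq_bot_iff, ← hH₂.2.2.1]
        exact inf_le_inf le_rfl inf_le_left
      · intro s hs
        obtain ⟨a, ha, b, hb, hab⟩ := hH₂.2.2.2 s (hSM hs)
        refine ⟨a, ha, b, Subgroup.mem_inf.mpr ⟨hb, ?_⟩, hab⟩
        have h1 : b = a⁻¹ * s := by rw [hab]; group
        rw [h1]
        exact mul_mem (inv_mem (hQS ha)) hs
    -- Hall subgroups
    have hall : ∀ D' : Subgroup G, IsComplIn Q D' S → IsPiHallOf {p : ℕ | p ≠ q} D' S := by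
      intro D' hD'
      have hr1 : Q.relIndex S = Nat.card D' := relIndex_left_of_isComplIn hD'
      have hr2 : D'.relIndex S = Nat.card Q := relIndex_right_of_isComplIn hD'
      refine ⟨hD'.2.1, ?_, ?_⟩
      · intro p _ hpD hpq
        rw [hpq, ← hr1] at hpD
        exact hQidx hpD
      · intro p hp hpπ hdvd
        rw [hr2] at hdvd
        obtain ⟨a, ha⟩ := IsPGroup.iff_card.mp hQp
        rw [ha] at hdvd
        exact hpπ ((Nat.prime_dvd_prime_iff_eq hp hqp).mp (hp.dvd_of_dvd_pow hdvd))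
    obtain ⟨s, hsS, hDs⟩ := exists_conj_of_isPiHallOf hSsolv (hall _ hD₂) (hall D hD)
    have hsM : s ∈ M := hSM hsS
    set H₃ : Subgroup G := H₂.map (MulAut.conj s).toMonoidHom with hH₃
    have hH₃M : H₃ ≤ M := by
      intro x hx
      rw [hH₃, mem_map_conj_iff] at hx
      have h1 := mul_mem (mul_mem hsM (hH₂.2.1 hx)) (inv_mem hsM)
      have h2 : s * (s⁻¹ * x * s) * s⁻¹ = x := by group
      rwa [h2] at h1
    have hDH₃ : D = H₃ ⊓ S := by
      rw [hDs, hH₃]
      ext x
      rw [mem_map_conj_iff, Subgroup.mem_inf, Subgroup.mem_inf, mem_map_conj_iff]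
      constructor
      · rintro ⟨h1, h2⟩
        refine ⟨h1, ?_⟩
        have h3 := mul_mem (mul_mem hsS h2) (inv_mem hsS)
        have h4 : s * (s⁻¹ * x * s) * s⁻¹ = x := by group
        rwa [h4] at h3
      · rintro ⟨h1, h2⟩
        exact ⟨h1, mul_mem (mul_mem (inv_mem hsS) h2) hsS⟩
    have hH₃D : H₃ ≤ normalizer (D : Set G) := by
      rw [hDH₃]
      exact le_normalizer_inf_of_le le_normalizer (hH₃M.trans hMS)
    have hcardH₃ : Nat.card H₃ = Nat.card D * Nat.card K := by
      rw [hH₃, card_map_conj]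
      have h1 := Cfsg.Agent.Lib.Helper23.card_of_isComplIn hH₂
      have hpos : 0 < Nat.card Q := Nat.card_pos
      apply Nat.eq_of_mul_eq_mul_left hpos
      rw [← h1, hcardM, hcardS, mul_assoc]
    have hDH₃le : D ≤ H₃ := by
      rw [hDH₃]
      exact inf_le_left
    have hrelD : D.relIndex H₃ = Nat.card K := by
      have e1 := card_mul_relIndex' hDH₃le
      have hpos : 0 < Nat.card D := Nat.card_pos
      apply Nat.eq_of_mul_eq_mul_left hpos
      rw [e1, hcardH₃]
    have hcopD : (Nat.card D).Coprime (D.relIndex H₃) := by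
      rw [hrelD]
      exact Nat.Coprime.coprime_dvd_left (Subgroup.card_dvd_of_le hDS) hcop
    obtain ⟨K₂, hK₂⟩ := exists_isComplIn_of_coprime hDH₃le hH₃D hcopD
    have hcardK₂ : Nat.card K₂ = Nat.card K := by
      rw [← relIndex_left_of_isComplIn hK₂, hrelD]
    have hK₂M : K₂ ≤ M := hK₂.2.1.trans hH₃M
    have hKhall : IsPiHallOf {p : ℕ | p ∣ Nat.card K} K M := by
      refine ⟨hKM, fun p _ h => h, ?_⟩
      intro p hp hpπ hdvd
      rw [relIndex_right_of_isComplIn hSK] at hdvd
      exact hp.one_lt.ne' (Nat.eq_one_of_dvd_coprimes hcop hdvd hpπ)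
    have hK₂hall : IsPiHallOf {p : ℕ | p ∣ Nat.card K} K₂ M := by
      refine ⟨hK₂M, fun p _ h => by rw [hcardK₂] at h; exact h, ?_⟩
      intro p hp hpπ hdvd
      have e1 := card_mul_relIndex' hK₂M
      rw [hcardK₂, hcardM] at e1
      have h1 : K₂.relIndex M = Nat.card S := by
        have hpos : 0 < Nat.card K := Nat.card_pos
        apply Nat.eq_of_mul_eq_mul_left hpos
        rw [e1, mul_comm]
      rw [h1] at hdvd
      exact hp.one_lt.ne' (Nat.eq_one_of_dvd_coprimes hcop hdvd hpπ)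
    obtain ⟨m, hmM, hK₂m⟩ := exists_conj_of_isPiHallOf hMsolv hKhall hK₂hall
    have hmS := hMS hmM
    have hmQ := hMQ hmM
    -- the hypotheses of `frobQ` for `(Q, D, K₂, C^m)`
    have hconj : ∀ k ∈ K₂, k ≠ 1 → m⁻¹ * k * m ∈ K ∧ m⁻¹ * k * m ≠ 1 := by
      intro k hk hk1
      rw [hK₂m, mem_map_conj_iff] at hk
      refine ⟨hk, ?_⟩
      intro h
      apply hk1
      calc k = m * (m⁻¹ * k * m) * m⁻¹ := by group
        _ = 1 := by rw [h]; group
    have hCQ' : C ≤ Q := hCQ
    have hfpf₂ : ∀ k ∈ K₂, k ≠ 1 → ∀ d ∈ D, k * d = d * k → d = 1 := by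
      intro k hk hk1 d hd hkd
      obtain ⟨hk', hk1'⟩ := hconj k hk hk1
      have hdS : m⁻¹ * d * m ∈ S := (mem_normalizer_iff''.mp hmS d).mp (hDS hd)
      have hdC : m⁻¹ * d * m ∈ C := by
        rw [← hprime _ hk' hk1']
        refine Subgroup.mem_inf.mpr ⟨hdS, ?_⟩
        rw [mem_centralizer_iff]
        intro y hy
        rw [Set.mem_singleton_iff] at hy
        rw [hy]
        calc m⁻¹ * k * m * (m⁻¹ * d * m) = m⁻¹ * (k * d) * m := by group
          _ = m⁻¹ * (d * k) * m := by rw [hkd]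
          _ = m⁻¹ * d * m * (m⁻¹ * k * m) := by group
      have hdQ : d ∈ Q := (mem_normalizer_iff''.mp hmQ d).mpr (hCQ' hdC)
      have h1 : d ∈ Q ⊓ D := Subgroup.mem_inf.mpr ⟨hdQ, hd⟩
      rw [hQD] at h1
      exact Subgroup.mem_bot.mp h1
    have hprime₂ : ∀ k ∈ K₂, k ≠ 1 →
        Q ⊓ centralizer ({k} : Set G) = C.map (MulAut.conj m).toMonoidHom := by
      intro k hk hk1
      obtain ⟨hk', hk1'⟩ := hconj k hk hk1
      ext x
      rw [mem_map_conj_iff]
      constructor
      · intro hx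
        obtain ⟨hxQ, hxc⟩ := Subgroup.mem_inf.mp hx
        rw [← hprime _ hk' hk1']
        refine Subgroup.mem_inf.mpr ⟨(mem_normalizer_iff''.mp hmS x).mp (hQS hxQ), ?_⟩
        rw [mem_centralizer_iff] at hxc ⊢
        intro y hy
        rw [Set.mem_singleton_iff] at hy
        rw [hy]
        have h1 := hxc k (Set.mem_singleton k)
        calc m⁻¹ * k * m * (m⁻¹ * x * m) = m⁻¹ * (k * x) * m := by group
          _ = m⁻¹ * (x * k) * m := by rw [h1]
          _ = m⁻¹ * x * m * (m⁻¹ * k * m) := by group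
      · intro hxC
        have hxQ : x ∈ Q := (mem_normalizer_iff''.mp hmQ x).mpr (hCQ' hxC)
        refine Subgroup.mem_inf.mpr ⟨hxQ, ?_⟩
        rw [← hprime _ hk' hk1'] at hxC
        obtain ⟨-, hxc⟩ := Subgroup.mem_inf.mp hxC
        rw [mem_centralizer_iff] at hxc ⊢
        intro y hy
        rw [Set.mem_singleton_iff] at hy
        rw [hy]
        have h1 := hxc _ (Set.mem_singleton _)
        calc k * x = m * ((m⁻¹ * k * m) * (m⁻¹ * x * m)) * m⁻¹ := by group
          _ = m * ((m⁻¹ * x * m) * (m⁻¹ * k * m)) * m⁻¹ := by rw [h1]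
          _ = x * k := by group
    have hcop₂ : (Nat.card Q).Coprime (Nat.card ↥(D ⊔ K₂)) := by
      obtain ⟨a, ha⟩ := IsPGroup.iff_card.mp hQp
      rw [ha]
      apply Nat.Coprime.pow_left
      rw [Nat.Prime.coprime_iff_not_dvd hqp]
      intro h
      have h1 : Nat.card ↥(D ⊔ K₂) ∣ Nat.card H₃ :=
        Subgroup.card_dvd_of_le (sup_le hDH₃le hK₂.2.1)
      rw [hcardH₃] at h1
      rcases (Nat.Prime.dvd_mul hqp).mp (h.trans h1) with h2 | h2
      · exact hqD h2
      · exact hqK h2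
    have hnc : ¬ D ≤ centralizer (Q : Set G) := by
      intro h
      apply hDnn
      have h1 : Q ≤ normalizer (D : Set G) :=
        (le_centralizer_iff.mp h).trans (centralizer_le_normalizer' D)
      intro s hs
      obtain ⟨a, ha, b, hb, hab⟩ := hD.2.2.2 s hs
      rw [hab]
      exact mul_mem (h1 ha) (le_normalizer hb)
    have hK₂1 : K₂ ≠ ⊥ := by
      intro h
      rw [h, Subgroup.card_bot] at hcardK₂
      exact hK1 (Subgroup.card_eq_one.mp hcardK₂.symm)
    have hC₂ : Nat.card (C.map (MulAut.conj m).toMonoidHom) = q := by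
      rw [card_map_conj, hC]
    obtain ⟨hKp, hcard, hlt, helt, hQn, hDn, hKn, hirr⟩ :=
      frobQ q Q D K₂ (C.map (MulAut.conj m).toMonoidHom) hQp ((hDS.trans hSM).trans hMQ)
        (hK₂M.trans hMQ) (hK₂.2.1.trans hH₃D) hK₂1 hfpf₂ hcop₂ hC₂ hprime₂ hnc
    rw [hcardK₂] at hKp hcard
    refine ⟨hKp, hDnil, hDnn, ?_, hlt, hcard, helt, ?_⟩
    · intro x hx
      have hx' : m⁻¹ * x * m ∈ M := mul_mem (mul_mem (inv_mem hmM) hx) hmM
      obtain ⟨a, ha, b, hb, hab⟩ := hSK.2.2.2 _ hx'
      have ha' : m * a * m⁻¹ ∈ S := (mem_normalizer_iff.mp hmS a).mp ha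
      have hb' : m * b * m⁻¹ ∈ K₂ := by
        rw [hK₂m]
        exact conj_mem_map_conj m hb
      obtain ⟨a₁, ha₁, d₁, hd₁, had⟩ := hD.2.2.2 _ ha'
      have hxeq : x = a₁ * d₁ * (m * b * m⁻¹) := by
        rw [← had]
        calc x = m * (m⁻¹ * x * m) * m⁻¹ := by group
          _ = m * (a * b) * m⁻¹ := by rw [hab]
          _ = m * a * m⁻¹ * (m * b * m⁻¹) := by group
      rw [hxeq]
      exact mul_mem (mul_mem (hQn ha₁) (hDn hd₁)) (hKn hb')
    · intro N h1 h2 hMN
      exact hirr N h1 h2 ((hDS.trans hSM).trans hMN) (hK₂M.trans hMN)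
  -- existence of a complement
  have hcopQS : (Nat.card Q).Coprime (Q.relIndex S) := by
    obtain ⟨a, ha⟩ := IsPGroup.iff_card.mp hQp
    rw [ha]
    exact Nat.Coprime.pow_left a ((Nat.Prime.coprime_iff_not_dvd hqp).mpr hQidx)
  obtain ⟨D₀, hD₀⟩ := exists_isComplIn_of_coprime hQS (hSM.trans hMQ) hcopQS
  exact ⟨Q, hQS, hMQ, hQp, hQidx, hCQ, (block D₀ hD₀).1, fun D hD => (block D hD).2⟩

end Cfsg.Agent.Lib.Helper35.BG
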