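import Mathlib
import Cfsg.Statements.S1351
import Cfsg.Statements.S1354
import Cfsg.Statements.S1366
import Cfsg.Statements.S1431
import Cfsg.Statements.S1437
import Cfsg.Agent.Lib.Helper35.BG.Hall
import Cfsg.Agent.Lib.Helper35.BG.Compl
import Cfsg.Agent.Lib.Helper35.BG.S1355Core
import Cfsg.Agent.Lib.Helper67.BG.S1357Core

/-!
Statement S1364 (`K ≠ 1`: `K* = C_{M_σ}(K)` is cyclic, nontrivial and contained in `M_F`, and `M_F`
is not cyclic), with S1351, S1354, S1366, S1431, S1437 as hypotheses (helper35).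
-/

set_option autoImplicit false

namespace Cfsg.Agent.Lib.Helper35.BG

open Cfsg

/-- an element `k` of order prime to `p` that maps a generator `s` of a cyclic `p`-group to a
power of itself and centralizes a non-identity power of `s` centralizes `s` -/
theorem commute_of_cyclic_pgroup {G : Type*} [Group G] {p : ℕ} [hp : Fact p.Prime] {s k : G}
    {n : ℕ} (hs : orderOf s = p ^ n) (a : ℕ) (hks : k * s * k⁻¹ = s ^ a)
    (hkp : (orderOf k).Coprime p) (i : ℕ) (hi1 : s ^ i ≠ 1) (hik : k * s ^ i * k⁻¹ = s ^ i) :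
    k * s = s * k := by
  obtain ⟨m, rfl⟩ : ∃ m, n = m + 1 := by
    rcases n with _ | m
    · exfalso
      apply hi1
      rw [pow_zero, orderOf_eq_one_iff] at hs
      rw [hs, one_pow]
    · exact ⟨m, rfl⟩
  have h1 : s ^ (a * i) = s ^ i := by
    rw [pow_mul, ← hks, conj_pow, hik]
  have h2 : i ≡ a * i [MOD p ^ (m + 1)] := by
    have := (pow_eq_pow_iff_modEq (x := s) (n := i) (m := a * i)).mp h1.symm
    rwa [hs] at this
  have h3 : ((p ^ (m + 1) : ℕ) : ℤ) ∣ ((a * i : ℕ) : ℤ) - (i : ℤ) := (Nat.modEq_iff_dvd).mp h2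
  have h4 : ¬ p ^ (m + 1) ∣ i := by
    intro hdvd
    apply hi1
    rw [← hs] at hdvd
    exact orderOf_dvd_iff_pow_eq_one.mp hdvd
  have hpZ : Prime (p : ℤ) := Nat.prime_iff_prime_int.mp hp.out
  have h5 : (p : ℤ) ∣ (a : ℤ) - 1 := by
    by_contra hnd
    have hcop : IsCoprime ((p : ℤ) ^ (m + 1)) ((a : ℤ) - 1) :=
      IsCoprime.pow_left ((Prime.coprime_iff_not_dvd hpZ).mpr hnd)
    have h6 : ((p : ℤ) ^ (m + 1)) ∣ ((a : ℤ) - 1) * (i : ℤ) := by
      have e : ((a * i : ℕ) : ℤ) - (i : ℤ) = ((a : ℤ) - 1) * (i : ℤ) := by push_cast; ring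
      rw [← e]
      have e2 : ((p ^ (m + 1) : ℕ) : ℤ) = (p : ℤ) ^ (m + 1) := by push_cast; rfl
      rw [← e2]; exact h3
    have h7 : ((p : ℤ) ^ (m + 1)) ∣ (i : ℤ) := hcop.dvd_of_dvd_mul_left h6
    apply h4
    have e2 : ((p ^ (m + 1) : ℕ) : ℤ) = (p : ℤ) ^ (m + 1) := by push_cast; rfl
    rw [← e2] at h7
    exact Int.natCast_dvd_natCast.mp h7
  have h8 : ((p : ℤ) ^ (m + 1)) ∣ (a : ℤ) ^ p ^ m - 1 := by
    have := dvd_sub_pow_of_dvd_sub (R := ℤ) (p := p) (a := (a : ℤ)) (b := 1) h5 m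
    rwa [one_pow] at this
  have hiter : ∀ j : ℕ, k ^ j * s * (k ^ j)⁻¹ = s ^ (a ^ j) := by
    intro j
    induction j with
    | zero => simp
    | succ j ih =>
      have e : k ^ (j + 1) * s * (k ^ (j + 1))⁻¹ = k * (k ^ j * s * (k ^ j)⁻¹) * k⁻¹ := by
        rw [pow_succ']; group
      rw [e, ih, ← conj_pow, hks, ← pow_mul, pow_succ']
  have h9 : s ^ (a ^ p ^ m) = s := by
    have hmod : 1 ≡ a ^ p ^ m [MOD p ^ (m + 1)] := by
      rw [Nat.modEq_iff_dvd]
      push_cast
      exact h8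
    have := (pow_eq_pow_iff_modEq (x := s) (n := 1) (m := a ^ p ^ m)).mpr (by rw [hs]; exact hmod)
    rw [pow_one] at this
    exact this.symm
  have h10 : Commute (k ^ p ^ m) s := by
    have := hiter (p ^ m)
    rw [h9] at this
    show k ^ p ^ m * s = s * k ^ p ^ m
    calc k ^ p ^ m * s = (k ^ p ^ m * s * (k ^ p ^ m)⁻¹) * k ^ p ^ m := by group
      _ = s * k ^ p ^ m := by rw [this]
  obtain ⟨j, hj⟩ := exists_pow_eq_self_of_coprime (x := k) (n := p ^ m)
    (Nat.Coprime.pow_left m hkp.symm)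
  have h11 : Commute k s := by
    rw [← hj]; exact h10.pow_left j
  exact h11.eq

variable {G : Type*} [Group G] [Finite G]

/-- BG 15.2 (part): for `K ≠ 1`, `K* = C_{M_σ}(K)` is a nontrivial cyclic subgroup of `M_F`, and
`M_F` is not cyclic.  Hypotheses: S1351, S1354, S1366, S1431, S1437. -/
theorem s1364_core (hG : IsMinSimpleOddOrder G)
    (h1351 : type_of% (@Cfsg.CfsgFrozen.S1351 G _ _ hG))
    (h1354 : type_of% (@Cfsg.CfsgFrozen.S1354 G _ _ hG))
    (h1366 : type_of% (@Cfsg.CfsgFrozen.S1366 G _ _ hG))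
    (h1431 : type_of% (@Cfsg.CfsgFrozen.S1431 G _ _ hG))
    (h1437 : type_of% (@Cfsg.CfsgFrozen.S1437 G _ _ hG))
    (M : Subgroup G) (hM : IsCoatom M) (K U : Subgroup G) (hKU : IsSigmaDecomposition M K U)
    (hK1 : K ≠ ⊥) :
    IsCyclic ↥(sigmaCore M ⊓ Subgroup.centralizer (K : Set G)) ∧
      (sigmaCore M ⊓ Subgroup.centralizer (K : Set G)) ≠ ⊥ ∧
      (sigmaCore M ⊓ Subgroup.centralizer (K : Set G)) ≤ fittingHallOf M ∧
      ¬ IsCyclic (fittingHallOf M) := by
  have hKne : sigmaCore M ⊓ Subgroup.centralizer (K : Set G) ≠ ⊥ :=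
    (h1354 M hM K hKU.cyclic hKU.hall).1
  have hFσ : fittingHallOf M ≤ sigmaCore M := fittingHallOf_le_sigmaCore hG M hM
  have hσn : sigmaCore M ≤ Subgroup.normalizer (sigmaCore M : Set G) := Subgroup.le_normalizer
  refine ⟨?_, hKne, ?_, ?_⟩
  · obtain ⟨Mstar, ⟨hMs, _, hHall⟩, _⟩ := h1366 M hM K U hKU hK1
    exact (h1351 Mstar hMs).2 _ hHall
  · by_cases hF : fittingHallOf M = sigmaCore M
    · rw [hF]; exact inf_le_left
    · obtain ⟨_, _, _, hq, _, _, Q, hQF, hQn, hQp, hQidx, _⟩ := h1437 M hM K U hKU hF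
      have : Fact (Nat.card ↥(sigmaCore M ⊓ Subgroup.centralizer (K : Set G))).Prime := ⟨hq⟩
      have hA : IsPGroup (Nat.card ↥(sigmaCore M ⊓ Subgroup.centralizer (K : Set G)))
          ↥(sigmaCore M ⊓ Subgroup.centralizer (K : Set G)) :=
        IsPGroup.of_card (n := 1) (by rw [pow_one])
      exact (Cfsg.Agent.Lib.Helper67.BG.le_of_normal_sylow (hQF.trans hFσ)
        ((Cfsg.Agent.Lib.Helper67.BG.sigmaCore_le M).trans hQn) hQp hQidx inf_le_left hA).trans hQF
  · intro hcyc
    by_cases hF : fittingHallOf M = sigmaCore M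
    · -- `M_σ` cyclic: a Sylow subgroup of `M_σ` meeting `K*` is centralized by `K`
      rw [hF] at hcyc
      have hcard1 : Nat.card ↥(sigmaCore M ⊓ Subgroup.centralizer (K : Set G)) ≠ 1 := by
        intro h1
        exact hKne (Subgroup.card_eq_one.mp h1)
      obtain ⟨p, hp, hpdvd⟩ := Nat.exists_prime_and_dvd hcard1
      have : Fact p.Prime := ⟨hp⟩
      obtain ⟨x, hxord⟩ := exists_prime_orderOf_dvd_card' (G := ↥(sigmaCore M ⊓ Subgroup.centralizer (K : Set G))) p hpdvd
      have hxσ : (x : G) ∈ sigmaCore M := (Subgroup.mem_inf.mp x.2).1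
      have hxC : (x : G) ∈ Subgroup.centralizer (K : Set G) := (Subgroup.mem_inf.mp x.2).2
      have hxord' : orderOf (x : G) = p := by rw [Subgroup.orderOf_coe]; exact hxord
      -- a Sylow `p`-subgroup of `M_σ` containing `x`
      have hzp : IsPGroup p (Subgroup.zpowers (⟨(x : G), hxσ⟩ : ↥(sigmaCore M))) := by
        apply IsPGroup.of_card (n := 1)
        rw [Nat.card_zpowers, pow_one, ← hxord']
        exact (Subgroup.orderOf_mk (x : G) hxσ)
      obtain ⟨S, hS⟩ := hzp.exists_le_sylow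
      obtain ⟨_, _, h3, _⟩ := h1431 M hM K hKU.hall hK1
      have hnot := (h3 p hp hpdvd S).2.2
      apply hnot
      set S' : Subgroup G := (S : Subgroup ↥(sigmaCore M)).map (sigmaCore M).subtype with hS'
      have hS'σ : S' ≤ sigmaCore M := Subgroup.map_subtype_le _
      have hS'p : IsPGroup p S' := S.isPGroup'.map _
      have hxS' : (x : G) ∈ S' :=
        ⟨⟨(x : G), hxσ⟩, hS (Subgroup.mem_zpowers _), rfl⟩
      -- `M_σ` is commutative
      have hcomm : ∀ a ∈ sigmaCore M, ∀ b ∈ sigmaCore M, a * b = b * a := by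
        intro a ha b hb
        have hcm := IsCyclic.isMulCommutative (α := ↥(sigmaCore M))
        exact congrArg Subtype.val (hcm.is_comm.comm ⟨a, ha⟩ ⟨b, hb⟩)
      have hσnS : sigmaCore M ≤ Subgroup.normalizer (S' : Set G) := by
        intro g hg
        apply mem_normalizer_of_map_conj_eq
        apply le_antisymm
        · rintro _ ⟨z, hz, rfl⟩
          show g * z * g⁻¹ ∈ S'
          rw [hcomm g hg z (hS'σ hz), mul_inv_cancel_right]
          exact hz
        · intro z hz
          refine ⟨z, hz, ?_⟩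
          show g * z * g⁻¹ = z
          rw [hcomm g hg z (hS'σ hz), mul_inv_cancel_right]
      have hidx : ¬ p ∣ S'.relIndex (sigmaCore M) := by
        have e : S'.subgroupOf (sigmaCore M) = (S : Subgroup ↥(sigmaCore M)) := by
          rw [hS']
          exact Subgroup.comap_map_eq_self_of_injective (Subgroup.subtype_injective _) _
        unfold Subgroup.relIndex
        rw [e]
        exact S.not_dvd_index
      have hle : ∀ A : Subgroup G, A ≤ sigmaCore M → IsPGroup p A → A ≤ S' := fun A hA hAp =>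
        Cfsg.Agent.Lib.Helper67.BG.le_of_normal_sylow hS'σ hσnS hS'p hidx hA hAp
      -- a generator of `S'`
      have hS'cyc : IsCyclic ↥S' :=
        isCyclic_of_injective (Subgroup.inclusion hS'σ) (Subgroup.inclusion_injective hS'σ)
      obtain ⟨⟨s, hsS⟩, hgen⟩ := hS'cyc.exists_generator
      have hgen' : ∀ y ∈ S', ∃ i : ℕ, s ^ i = y := by
        intro y hy
        have h := hgen ⟨y, hy⟩
        have h2 : y ∈ Subgroup.zpowers s := by
          obtain ⟨i, hi⟩ := Subgroup.mem_zpowers_iff.mp h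
          exact Subgroup.mem_zpowers_iff.mpr ⟨i, by
            have := congrArg Subtype.val hi
            simpa using this⟩
        exact (Submonoid.mem_powers_iff _ _).mp (mem_powers_iff_mem_zpowers.mpr h2)
      obtain ⟨n, hn⟩ := (IsPGroup.iff_orderOf.mp hS'p) ⟨s, hsS⟩
      have hn' : orderOf s = p ^ n := by rw [← hn]; exact (Subgroup.orderOf_mk s hsS).symm
      obtain ⟨i, hi⟩ := hgen' (x : G) hxS'
      have hx1 : (x : G) ≠ 1 := by
        intro h
        rw [h, orderOf_one] at hxord'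
        exact hp.one_lt.ne hxord'
      have hKcomm : ∀ k ∈ K, k * s = s * k := by
        intro k hk
        have hkM : k ∈ M := hKU.hall.1 hk
        have hksσ : k * s * k⁻¹ ∈ sigmaCore M :=
          (Subgroup.mem_normalizer_iff.mp
            (Cfsg.Agent.Lib.Helper67.BG.sigmaCore_normalizer M hkM) s).mp (hS'σ hsS)
        have hord : orderOf (k * s * k⁻¹) = p ^ n := by
          rw [← hn']; exact (MulAut.conj k).orderOf_eq s
        have hzk : IsPGroup p (Subgroup.zpowers (k * s * k⁻¹)) := by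
          apply IsPGroup.of_card (n := n)
          rw [Nat.card_zpowers, hord]
        have hmem : k * s * k⁻¹ ∈ S' :=
          hle _ (Subgroup.zpowers_le.mpr hksσ) hzk (Subgroup.mem_zpowers _)
        obtain ⟨a, ha⟩ := hgen' _ hmem
        have hpσ : p ∈ sigma M :=
          Cfsg.Agent.Lib.Helper67.BG.sigmaCore_isPi M p hp
            (hpdvd.trans (Subgroup.card_dvd_of_le inf_le_left))
        have hpK : ¬ p ∣ Nat.card K := fun h => (hKU.hall.2.1 p hp h).2.2.1 hpσ
        have hkp : (orderOf k).Coprime p := by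
          apply Nat.Coprime.symm
          rw [Nat.Prime.coprime_iff_not_dvd hp]
          exact fun h => hpK (h.trans (Subgroup.orderOf_dvd_natCard K hk))
        have hkx : k * (x : G) = (x : G) * k := Subgroup.mem_centralizer_iff.mp hxC k hk
        refine commute_of_cyclic_pgroup hn' a ha.symm hkp i (by rw [hi]; exact hx1) ?_
        rw [hi, hkx, mul_inv_cancel_right]
      intro y hy
      refine Subgroup.mem_inf.mpr ⟨hS'σ hy, ?_⟩
      rw [Subgroup.mem_centralizer_iff]
      intro k hk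
      obtain ⟨j, rfl⟩ := hgen' y hy
      exact ((show Commute k s from hKcomm k hk).pow_right j).eq
    · -- `M_F ≠ M_σ`: `Q / Q₀` has order `q ^ |K| ≥ q ^ 2` and exponent `q`
      obtain ⟨_, _, hKp, hq, _, _, Q, hQF, hQn, hQp, hQidx, hD⟩ := h1437 M hM K U hKU hF
      obtain ⟨q, hqdef⟩ : ∃ q, q = Nat.card ↥(sigmaCore M ⊓ Subgroup.centralizer (K : Set G)) :=
        ⟨_, rfl⟩
      rw [← hqdef] at hq hQp hQidx hD
      have : Fact q.Prime := ⟨hq⟩
      have hQσ : Q ≤ sigmaCore M := hQF.trans hFσ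
      obtain ⟨e, he⟩ := IsPGroup.iff_card.mp hQp
      have hcop : (Nat.card Q).Coprime (Q.relIndex (sigmaCore M)) := by
        rw [he]
        exact Nat.Coprime.pow_left e ((Nat.Prime.coprime_iff_not_dvd hq).mpr hQidx)
      obtain ⟨D, hDc⟩ := exists_isComplIn_of_coprime hQσ
        ((Cfsg.Agent.Lib.Helper67.BG.sigmaCore_le M).trans hQn) hcop
      obtain ⟨_, _, _, hcard, hpow, _⟩ := hD D hDc
      have hQcyc : IsCyclic ↥Q :=
        isCyclic_of_injective (Subgroup.inclusion hQF) (Subgroup.inclusion_injective hQF)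
      obtain ⟨⟨g, hgQ⟩, hgen⟩ := hQcyc.exists_generator
      have hQcard : Nat.card Q = orderOf g := by
        have h1 : Nat.card Q = orderOf (⟨g, hgQ⟩ : Q) := by
          rw [← Nat.card_zpowers]
          have htop : Subgroup.zpowers (⟨g, hgQ⟩ : Q) = ⊤ := by
            rw [eq_top_iff]; intro y _; exact hgen y
          rw [htop, Subgroup.card_top]
        rw [h1]; exact (Subgroup.orderOf_mk g hgQ)
      have hgq : g ^ q ∈ Q ⊓ Subgroup.centralizer (D : Set G) := (hpow g hgQ g hgQ).1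
      have h1 : orderOf (g ^ q) ∣ Nat.card ↥(Q ⊓ Subgroup.centralizer (D : Set G)) :=
        Subgroup.orderOf_dvd_natCard _ hgq
      rw [orderOf_pow] at h1
      have hpos : 0 < orderOf g := orderOf_pos g
      have hgpos : 0 < Nat.gcd (orderOf g) q := Nat.gcd_pos_of_pos_left _ hpos
      have h2 : orderOf g ∣
          Nat.gcd (orderOf g) q * Nat.card ↥(Q ⊓ Subgroup.centralizer (D : Set G)) :=
        (Nat.div_dvd_iff_dvd_mul (Nat.gcd_dvd_left _ _) hgpos).mp h1
      have h3 : orderOf g ∣ q * Nat.card ↥(Q ⊓ Subgroup.centralizer (D : Set G)) :=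
        h2.trans (Nat.mul_dvd_mul_right (Nat.gcd_dvd_right _ _) _)
      rw [← hQcard, hcard, mul_comm q] at h3
      have hQ0pos : 0 < Nat.card ↥(Q ⊓ Subgroup.centralizer (D : Set G)) := Nat.card_pos
      have h4 : q ^ Nat.card K ∣ q := Nat.dvd_of_mul_dvd_mul_left hQ0pos h3
      have h5 : q ^ Nat.card K ≤ q ^ 1 := by
        rw [pow_one]; exact Nat.le_of_dvd hq.pos h4
      have h6 : Nat.card K ≤ 1 := (Nat.pow_le_pow_iff_right hq.one_lt).mp h5
      exact absurd hKp.two_le (by omega)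

end Cfsg.Agent.Lib.Helper35.BG
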